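import Mathlib

/-! The affine group `V ⋊ L` of a group acting linearly, and orders of its elements. -/

set_option autoImplicit false

namespace Cfsg.Agent.H23

open Finset

variable {F V L : Type*} [Field F] [AddCommGroup V] [Module F V] [Group L]

/-- the action on the translations -/
def afφ (ρ : L →* (V ≃ₗ[F] V)) : L →* MulAut (Multiplicative V) where
  toFun h := AddEquiv.toMultiplicative (ρ h).toAddEquiv
  map_one' := by ext x; simp
  map_mul' a b := by ext x; simp

/-- the affine group -/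
abbrev Aff (ρ : L →* (V ≃ₗ[F] V)) : Type _ := Multiplicative V ⋊[afφ ρ] L

variable {ρ : L →* (V ≃ₗ[F] V)}

instance [Finite V] [Finite L] : Finite (Aff ρ) :=
  Finite.of_equiv _ (SemidirectProduct.equivProd (φ := afφ ρ)).symm

/-- linear part -/
def Aff.lin (x : Aff ρ) : Module.End F V := (ρ x.right : V →ₗ[F] V)

theorem Aff.pow_right (x : Aff ρ) (n : ℕ) : (x ^ n).right = x.right ^ n :=
  map_pow (SemidirectProduct.rightHom (φ := afφ ρ)) x n

theorem lin_pow (h : L) (n : ℕ) :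
    ((ρ (h ^ n) : V →ₗ[F] V) : Module.End F V) = (ρ h : V →ₗ[F] V) ^ n := by
  induction n with
  | zero => ext; simp
  | succ n ih => rw [pow_succ, pow_succ, ← ih, map_mul]; rfl

theorem Aff.pow_left (x : Aff ρ) (n : ℕ) :
    (x ^ n).left.toAdd = (∑ i ∈ range n, x.lin ^ i) x.left.toAdd := by
  induction n with
  | zero => simp
  | succ n ih =>
    rw [pow_succ, SemidirectProduct.mul_left, toAdd_mul, ih, sum_range_succ, LinearMap.add_apply,
      Aff.pow_right, Aff.lin, ← lin_pow]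
    rfl

theorem Aff.pow_eq_one_iff (x : Aff ρ) (n : ℕ) :
    x ^ n = 1 ↔ x.right ^ n = 1 ∧ (∑ i ∈ range n, x.lin ^ i) x.left.toAdd = 0 := by
  rw [← Aff.pow_left, ← Aff.pow_right, SemidirectProduct.ext_iff, and_comm]
  rfl

theorem Aff.pow_of_fpf (x : Aff ρ) {n : ℕ} (h : x.right ^ n = 1)
    (h1 : ∀ v, ρ x.right v = v → v = 0) : x ^ n = 1 := by
  refine (x.pow_eq_one_iff n).2 ⟨h, h1 _ ?_⟩
  have h2 : x.lin ^ n = 1 := by rw [Aff.lin, ← lin_pow, h, map_one]; rfl
  have := congrArg (fun f : Module.End F V => f x.left.toAdd) (mul_geom_sum x.lin n)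
  simp only [h2, sub_self, LinearMap.zero_apply, Module.End.mul_apply, LinearMap.sub_apply,
    Module.End.one_apply, sub_eq_zero] at this
  exact this

theorem Aff.pow_of_char (p : ℕ) [CharP F p] (x : Aff ρ) {n : ℕ} (h : x.right ^ n = 1) :
    x ^ (n * p) = 1 := by
  have h1 : x ^ n = SemidirectProduct.inl (x ^ n).left := by
    ext
    · rfl
    · rw [Aff.pow_right, h]; rfl
  rw [pow_mul, h1, ← map_pow]
  have : (x ^ n).left ^ p = 1 := by
    apply Multiplicative.toAdd.injective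
    rw [toAdd_pow, toAdd_one, ← Nat.cast_smul_eq_nsmul F, CharP.cast_eq_zero, zero_smul]
  rw [this, map_one]

/-- translations -/
def Aff.tr (ρ : L →* (V ≃ₗ[F] V)) : Subgroup (Aff ρ) :=
  (SemidirectProduct.rightHom (φ := afφ ρ)).ker

instance : (Aff.tr ρ).Normal := MonoidHom.normal_ker _

theorem Aff.tr_comm {x y : Aff ρ} (hx : x ∈ Aff.tr ρ) (hy : y ∈ Aff.tr ρ) : x * y = y * x := by
  rw [Aff.tr, ← SemidirectProduct.range_inl_eq_ker_rightHom] at hx hy
  obtain ⟨a, rfl⟩ := hx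
  obtain ⟨b, rfl⟩ := hy
  rw [← map_mul, ← map_mul, mul_comm]

theorem Aff.exists_tr [Nontrivial V] : ∃ x ∈ Aff.tr ρ, x ≠ 1 := by
  obtain ⟨v, hv⟩ := exists_ne (1 : Multiplicative V)
  exact ⟨SemidirectProduct.inl v, by simp [Aff.tr],
    fun h => hv (SemidirectProduct.inl_injective (h.trans (map_one _).symm))⟩

theorem mem_range_orderOf_of_dvd {G : Type*} [Group G] [Finite G] {x : G} {d : ℕ}
    (h : d ∣ orderOf x) : d ∈ Set.range (orderOf : G → ℕ) :=
  ⟨_, orderOf_pow_orderOf_div (orderOf_pos x).ne' h⟩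

theorem mem_range_orderOf_of {G : Type*} [Group G] [Finite G] {x : G} {d n : ℕ} (hd : d ∣ n)
    (h : ∀ k, x ^ k = 1 → n ∣ k) : d ∈ Set.range (orderOf : G → ℕ) :=
  mem_range_orderOf_of_dvd (hd.trans (h _ (pow_orderOf_eq_one x)))

theorem range_orderOf_equiv {G H : Type*} [Group G] [Group H] (e : G ≃* H) :
    Set.range (orderOf : G → ℕ) = Set.range (orderOf : H → ℕ) := by
  ext d
  exact ⟨fun ⟨x, h⟩ => ⟨e x, (e.orderOf_eq x).trans h⟩,
    fun ⟨x, h⟩ => ⟨e.symm x, (e.symm.orderOf_eq x).trans h⟩⟩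

end Cfsg.Agent.H23
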