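import Cfsg.Agent.H23.Basic

/-!
# Marks of finite actions; stable bisets
-/

set_option autoImplicit false

namespace Cfsg.Agent.H23.Park

open Subgroup MulAction
open Equiv (Perm)

variable {Γ X : Type*} [Group Γ]

/-- the points of `A` fixed by `H` -/
def Fx (ρ : Γ →* Perm X) (A : Set X) (H : Subgroup Γ) : Set X := {x | x ∈ A ∧ ∀ g ∈ H, ρ g x = x}

theorem marks_aux [Finite Γ] [Finite X] (ρ τ : Γ →* Perm X) (n : ℕ) : ∀ A B : Set X, A.ncard = n →
    (∀ g, ∀ x ∈ A, ρ g x ∈ A) → (∀ g, ∀ x ∈ B, τ g x ∈ B) → (∀ H, (Fx ρ A H).ncard = (Fx τ B H).ncard) →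
    ∃ f : X → X, Set.BijOn f A B ∧ ∀ g, ∀ x ∈ A, f (ρ g x) = τ g (f x) := by
  classical
  induction n using Nat.strong_induction_on with | _ n ih => ?_
  intro A B hn hA hB h
  have ne : ∀ H, (Fx ρ A H).Nonempty ↔ (Fx τ B H).Nonempty := fun H => by
    rw [← Set.ncard_pos, ← Set.ncard_pos, h]
  rcases A.eq_empty_or_nonempty with rfl | hne
  · obtain rfl : B = ∅ := Set.not_nonempty_iff_eq_empty.1 fun ⟨y, hy⟩ =>
      ((ne ⊥).2 ⟨y, hy, by simp⟩).elim fun _ h => h.1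
    exact ⟨id, Set.bijOn_empty _, by simp⟩
  let st : (Γ →* Perm X) → X → Subgroup Γ := fun ρ x => (stabilizer (Perm X) x).comap ρ
  obtain ⟨x, hx, hmax⟩ := (Set.toFinite A).exists_maximalFor (st ρ) A hne
  obtain ⟨y, hy, h1⟩ := (ne (st ρ x)).1 ⟨x, hx, fun g hg => hg⟩
  obtain ⟨x', hx', h2⟩ := (ne (st τ y)).2 ⟨y, hy, fun g hg => hg⟩
  have h3 : ∀ g, ρ g x = x ↔ τ g y = y := fun g =>
    ⟨h1 g, fun e => hmax hx' (fun k hk => h2 k (h1 k hk)) (h2 g e)⟩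
  have h4 : ∀ g k, ρ g x = ρ k x ↔ τ g y = τ k y := fun g k => by
    have := h3 (k⁻¹ * g)
    simpa only [map_mul, map_inv, Perm.mul_apply, Perm.inv_eq_iff_eq] using this
  let O := Set.range fun g => ρ g x
  let O' := Set.range fun g => τ g y
  let f₀ : X → X := fun z => if h : z ∈ O then τ h.choose y else z
  have f1 : ∀ g, f₀ (ρ g x) = τ g y := fun g => by
    have m : ρ g x ∈ O := ⟨g, rfl⟩
    simp only [f₀, dif_pos m]
    exact (h4 _ _).1 m.choose_spec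
  have f2 : Set.BijOn f₀ O O' := by
    refine ⟨?_, ?_, ?_⟩
    · rintro _ ⟨g, rfl⟩; exact ⟨g, (f1 g).symm⟩
    · rintro _ ⟨g, rfl⟩ _ ⟨k, rfl⟩ e
      exact (h4 g k).2 (by rwa [f1, f1] at e)
    · rintro _ ⟨g, rfl⟩; exact ⟨_, ⟨g, rfl⟩, f1 g⟩
  have o1 : O ⊆ A := by rintro _ ⟨g, rfl⟩; exact hA g x hx
  have o2 : O' ⊆ B := by rintro _ ⟨g, rfl⟩; exact hB g y hy
  have i1 : ∀ (ρ : Γ →* Perm X) x g z, ρ g z ∈ Set.range (fun g => ρ g x) ↔ z ∈ Set.range (fun g => ρ g x) :=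
    fun ρ x g z => ⟨fun ⟨k, e⟩ => ⟨g⁻¹ * k, by simp [e]⟩, fun ⟨k, e⟩ => ⟨g * k, by simp [← e]⟩⟩
  have sp : ∀ (ρ : Γ →* Perm X) {A O : Set X}, O ⊆ A → ∀ H,
      (Fx ρ (A \ O) H).ncard + (Fx ρ O H).ncard = (Fx ρ A H).ncard := fun ρ A O h H => by
    rw [← Set.ncard_union_eq (Set.disjoint_left.2 fun z h1 h2 => h1.1.2 h2.1)]
    congr 1
    ext z
    exact ⟨fun h1 => h1.elim (fun h2 => ⟨h2.1.1, h2.2⟩) fun h2 => ⟨h h2.1, h2.2⟩, fun h1 => by
      by_cases h2 : z ∈ O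
      · exact Or.inr ⟨h2, h1.2⟩
      · exact Or.inl ⟨⟨h1.1, h2⟩, h1.2⟩⟩
  obtain ⟨f₁, g1, g2⟩ := ih _ (hn ▸ Set.ncard_lt_ncard (Set.sdiff_ssubset_left_iff.2 ⟨x, hx, 1, by simp⟩))
    (A \ O) (B \ O') rfl (fun g z hz => ⟨hA g z hz.1, mt (i1 ρ x g z).1 hz.2⟩)
    (fun g z hz => ⟨hB g z hz.1, mt (i1 τ y g z).1 hz.2⟩) fun H => by
      have : (Fx ρ O H).ncard = (Fx τ O' H).ncard := by
        refine Set.ncard_congr (fun z _ => f₀ z) ?_ (fun a b ha hb e => f2.injOn ha.1 hb.1 e) ?_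
        · rintro _ ⟨⟨g, rfl⟩, h5⟩
          refine ⟨⟨g, (f1 g).symm⟩, fun k hk => ?_⟩
          rw [f1, ← Perm.mul_apply, ← map_mul, ← h4, map_mul]
          exact h5 k hk
        · rintro _ ⟨⟨g, rfl⟩, h5⟩
          refine ⟨_, ⟨⟨g, rfl⟩, fun k hk => ?_⟩, f1 g⟩
          rw [← Perm.mul_apply, ← map_mul, h4, map_mul]
          exact h5 k hk
      have e1 := sp ρ o1 H
      have e2 := sp τ o2 H
      rw [h H] at e1
      omega
  refine ⟨O.piecewise f₀ f₁, ?_, fun g z hz => ?_⟩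
  · rw [← Set.union_sdiff_cancel o1, ← Set.union_sdiff_cancel o2]
    have a1 : Set.BijOn (O.piecewise f₀ f₁) O O' := f2.congr (Set.piecewise_eqOn _ _ _).symm
    have a2 : Set.BijOn (O.piecewise f₀ f₁) (A \ O) (B \ O') :=
      g1.congr fun z hz => (Set.piecewise_eq_of_notMem _ _ _ hz.2).symm
    refine a1.union a2 ?_
    rintro a (ha | ha) b (hb | hb) e
    · exact a1.injOn ha hb e
    · exact ((a2.mapsTo hb).2 (e ▸ a1.mapsTo ha)).elim
    · exact ((a2.mapsTo ha).2 (e.symm ▸ a1.mapsTo hb)).elim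
    · exact a2.injOn ha hb e
  · by_cases hO : z ∈ O
    · rw [Set.piecewise_eq_of_mem _ _ _ hO, Set.piecewise_eq_of_mem _ _ _ ((i1 ρ x g z).2 hO)]
      obtain ⟨k, rfl⟩ := hO
      rw [f1, ← Perm.mul_apply, ← map_mul, f1, map_mul, Perm.mul_apply]
    · rw [Set.piecewise_eq_of_notMem _ _ _ hO, Set.piecewise_eq_of_notMem _ _ _ (mt (i1 ρ x g z).1 hO)]
      exact g2 g z ⟨hz, hO⟩

/-- two finite actions with the same marks are equivalent -/
theorem marks [Finite Γ] [Finite X] (ρ τ : Γ →* Perm X)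
    (h : ∀ H, (Fx ρ Set.univ H).ncard = (Fx τ Set.univ H).ncard) : ∃ σ : Perm X, ∀ g, σ * ρ g = τ g * σ := by
  obtain ⟨f, h1, h2⟩ := marks_aux ρ τ _ _ _ rfl (by simp) (by simp) h
  exact ⟨Equiv.ofBijective f (Set.bijOn_univ.1 h1), fun g => Equiv.ext fun x => h2 g x trivial⟩

/-- the mark of `R` on the cosets of `D` -/
noncomputable def mk (R D : Subgroup Γ) : ℕ := Nat.card {y : Γ ⧸ D | ∀ r ∈ R, r • y = y}

/-- the conjugate subgroup -/
def cg (g : Γ) (R : Subgroup Γ) : Subgroup Γ := R.map (MulAut.conj g⁻¹).toMonoidHom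

theorem card_cg (g : Γ) (R : Subgroup Γ) : Nat.card (cg g R) = Nat.card R :=
  card_map_of_injective (MulAut.conj g⁻¹).injective

theorem fix_iff {R D : Subgroup Γ} {g : Γ} : (∀ r ∈ R, r • (g : Γ ⧸ D) = g) ↔ cg g R ≤ D := by
  rw [cg, map_le_iff_le_comap]
  refine forall₂_congr fun r _ => ?_
  rw [eq_comm, MulAction.Quotient.smul_mk, QuotientGroup.eq, mem_comap]
  simp [mul_assoc]

theorem mk_mul (R D : Subgroup Γ) : Nat.card D * mk R D = Nat.card {g | cg g R ≤ D} := by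
  rw [mk, ← QuotientGroup.card_preimage_mk]
  exact congrArg (fun s : Set Γ => Nat.card s) (Set.ext fun g => fix_iff)

theorem exists_of_mk {R D : Subgroup Γ} (h : mk R D ≠ 0) : ∃ g, cg g R ≤ D := by
  obtain ⟨y, hy⟩ := (Nat.card_ne_zero.1 h).1
  obtain ⟨g, rfl⟩ := QuotientGroup.mk_surjective y
  exact ⟨g, fix_iff.1 hy⟩

theorem mk_cg (k : Γ) (R D : Subgroup Γ) [Finite D] : mk (cg k R) D = mk R D := by
  refine Nat.eq_of_mul_eq_mul_left (Nat.card_pos (α := D)) ?_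
  rw [mk_mul, mk_mul]
  refine Nat.card_congr ((Equiv.mulLeft k).subtypeEquiv fun g => ?_)
  simp only [Set.mem_ofPred_eq, cg, map_map, Equiv.coe_mulLeft]
  exact iff_of_eq (by congr 2; ext; simp [mul_assoc])

variable [Finite Γ] [Fintype (Subgroup Γ)]

/-- the mark of `R` on a sum of coset spaces -/
noncomputable def vm (c : Subgroup Γ → ℕ) (R : Subgroup Γ) : ℕ := ∑ D, c D * mk R D

theorem exists_coeff (𝓕 : Subgroup Γ → Prop) (h1 : ∀ g R, 𝓕 R → 𝓕 (cg g R)) (j : ℕ) :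
    ∃ c : Subgroup Γ → ℕ, (∀ D, c D ≠ 0 ↔ 𝓕 D) ∧ ∀ R R', 𝓕 R → 𝓕 R' → Nat.card R = Nat.card R' →
      Nat.card Γ < Nat.card R + j → vm c R = vm c R' := by
  classical
  induction j with
  | zero => exact ⟨fun D => if 𝓕 D then 1 else 0, by simp, fun R _ _ _ _ h =>
      absurd (card_le_card_group R) (by omega)⟩
  | succ j ih =>
  obtain ⟨c, c1, c2⟩ := ih
  let M := ∑ R, vm c R
  let δ : Subgroup Γ → ℕ := fun D => if 𝓕 D ∧ Nat.card D + j = Nat.card Γ then (M - vm c D) * Nat.card D else 0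
  have e1 : ∀ R, vm (fun D => Nat.card Γ * c D + δ D) R = Nat.card Γ * vm c R + vm δ R := fun R => by
    simp only [vm, add_mul, Finset.sum_add_distrib, Finset.mul_sum, mul_assoc]
  have e2 : ∀ R : Subgroup Γ, Nat.card Γ < Nat.card R + j → vm δ R = 0 := fun R h =>
    Finset.sum_eq_zero fun D _ => by
      by_contra h2
      obtain ⟨g, hg⟩ := exists_of_mk (right_ne_zero_of_mul h2)
      have h3 := card_le_of_le hg
      have h4 := left_ne_zero_of_mul h2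
      simp only [δ, ne_eq, ite_eq_right_iff, Classical.not_imp] at h4
      rw [card_cg] at h3
      omega
  have e3 : ∀ R : Subgroup Γ, 𝓕 R → Nat.card R + j = Nat.card Γ → vm δ R = Nat.card Γ * (M - vm c R) := fun R h h2 => by
    haveI := Fintype.ofFinite Γ
    calc vm δ R = ∑ D, ∑ g, if cg g R = D then M - vm c D else 0 := Finset.sum_congr rfl fun D _ => ?_
      _ = ∑ g, (M - vm c (cg g R)) := by rw [Finset.sum_comm]; simp
      _ = _ := by simp [vm, mk_cg]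
    simp only [δ]
    split_ifs with h3
    · rw [mul_assoc, mk_mul, ← Finset.sum_filter, Finset.sum_const, smul_eq_mul, mul_comm, Nat.card_eq_fintype_card,
        Fintype.card_subtype]
      congr 2
      ext g
      simp only [Set.mem_ofPred_eq, Finset.mem_filter, Finset.mem_univ, true_and]
      exact ⟨fun h4 => eq_of_le_of_card_ge h4 (by rw [card_cg]; omega), le_of_eq⟩
    · rw [zero_mul, Finset.sum_eq_zero fun g _ => if_neg ?_]
      rintro rfl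
      exact h3 ⟨h1 g R h, by rwa [card_cg]⟩
  refine ⟨fun D => Nat.card Γ * c D + δ D, fun D => ⟨fun h => by_contra fun h2 => h ?_, fun h h2 => ?_⟩,
    fun R R' hR hR' e h => ?_⟩
  · simp only [δ, h2, false_and, if_false, not_not.1 (mt (c1 D).1 h2), mul_zero]
  · exact mul_ne_zero Nat.card_pos.ne' ((c1 D).2 h) (Nat.eq_zero_of_add_eq_zero_right h2)
  rw [e1, e1]
  by_cases h2 : Nat.card Γ < Nat.card R + j
  · rw [e2 R h2, e2 R' (e ▸ h2), c2 R R' hR hR' e h2]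
  · have m : ∀ R, vm c R ≤ M := fun R => Finset.single_le_sum (fun _ _ => Nat.zero_le _) (Finset.mem_univ R)
    rw [e3 R hR (by omega), e3 R' hR' (by omega), ← mul_add, ← mul_add, Nat.add_sub_cancel' (m R),
      Nat.add_sub_cancel' (m R')]

/-- the sum of coset spaces -/
abbrev Pt (c : Subgroup Γ → ℕ) := Σ i : (Σ D, Fin (c D)), Γ ⧸ i.1

theorem card_fix (c : Subgroup Γ → ℕ) (R : Subgroup Γ) :
    (Fx (toPermHom Γ (Pt c)) Set.univ R).ncard = vm c R := by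
  let e : Fx (toPermHom Γ (Pt c)) Set.univ R ≃ Σ i : (Σ D, Fin (c D)), {y : Γ ⧸ i.1 | ∀ r ∈ R, r • y = y} :=
    ⟨fun x => ⟨x.1.1, x.1.2, fun r hr => eq_of_heq (Sigma.mk.inj (x.2.2 r hr)).2⟩,
      fun x => ⟨⟨x.1, x.2.1⟩, trivial, fun r hr => congrArg (Sigma.mk x.1) (x.2.2 r hr)⟩, fun _ => rfl, fun _ => rfl⟩
  rw [← Nat.card_coe_set_eq, Nat.card_congr e, Nat.card_sigma, Fintype.sum_sigma]
  exact Finset.sum_congr rfl fun D _ =>
    (Finset.sum_const (mk R D)).trans (by rw [Finset.card_univ, Fintype.card_fin, smul_eq_mul])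

end Cfsg.Agent.H23.Park
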