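import Cfsg.Agent.H28.Spec5

/-! Upper bounds for the element orders of `Sp₈(q)`, `q` even. -/

set_option autoImplicit false

namespace Cfsg.Agent.H23

open Polynomial Module H28 Multiset

/-- the maximal orders -/
def Mu (q d : ℕ) : Prop :=
  d ∣ q ^ 4 + 1 ∨ d ∣ q ^ 4 - 1 ∨ d ∣ (q ^ 3 + 1) * (q - 1) ∨ d ∣ (q ^ 3 - 1) * (q + 1) ∨
  d ∣ (q ^ 3 + 1) * 2 ∨ d ∣ (q ^ 3 - 1) * 2 ∨ d ∣ (q ^ 2 + 1) * (q + 1) * 2 ∨
  d ∣ (q ^ 2 + 1) * (q - 1) * 2 ∨ d ∣ (q ^ 2 + 1) * 4 ∨ d ∣ (q ^ 2 - 1) * 4 ∨ d ∣ (q + 1) * 8 ∨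
  d ∣ (q - 1) * 8

theorem Mu.of_dvd {q d e : ℕ} (h : Mu q e) (h1 : d ∣ e) : Mu q d := by
  unfold Mu at *
  rcases h with h | h | h | h | h | h | h | h | h | h | h | h <;> simp only [h1.trans h, true_or, or_true]

section comb

variable {k : Type*} [Field k] [DecidableEq k] {q : ℕ} {R R' : Multiset k} {M M' e e' : ℕ}

/-- exponent and multiplicity bound -/
def Bd (R : Multiset k) (M e : ℕ) : Prop := ∀ x ∈ R, x ^ M = 1 ∧ R.count x ≤ e

theorem Bd.mono (h : Bd R M e) (h1 : M ∣ M') (h2 : e ≤ e') : Bd R M' e' := fun x hx => by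
  obtain ⟨j, rfl⟩ := h1
  exact ⟨by rw [pow_mul, (h x hx).1, one_pow], (h x hx).2.trans h2⟩

theorem Bd.count_le (h : Bd R M e) (x : k) : R.count x ≤ e := by
  by_cases hx : x ∈ R
  · exact (h x hx).2
  · simp [count_eq_zero_of_notMem hx]

theorem Bd.add (h : Bd R M e) (h' : Bd R' M e') : Bd (R + R') M (e + e') := fun x hx =>
  ⟨(mem_add.1 hx).elim (fun hx => (h x hx).1) fun hx => (h' x hx).1, by
    rw [count_add]; exact add_le_add (h.count_le x) (h'.count_le x)⟩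

theorem Bd.disj (h : Bd R M e) (h' : Bd R' M e) (hd : ∀ x ∈ R, x ∉ R') : Bd (R + R') M e :=
  fun x hx => ⟨(mem_add.1 hx).elim (fun hx => (h x hx).1) fun hx => (h' x hx).1, by
    rw [count_add]
    by_cases h1 : x ∈ R
    · rw [count_eq_zero_of_notMem (hd x h1)]; exact h.count_le x
    · rw [count_eq_zero_of_notMem h1, zero_add]; exact h'.count_le x⟩

theorem bd_one (h : ∀ x ∈ R, x = 1) (M : ℕ) : Bd R M R.card := fun x hx =>
  ⟨by rw [h x hx, one_pow], count_le_card _ _⟩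

/-- a block of eigenvalues -/
structure Bk (q d N : ℕ) (S : Multiset k) : Prop where
  pm : Pm q d N
  bd : Bd S N 1
  ne : ∀ x ∈ S, x ≠ 1
  ord : ∀ x ∈ S, ∀ y ∈ S, orderOf x = orderOf y

theorem Bk.same {d N : ℕ} {S : Multiset k} (h : Bk q d N S) {x : k} (hx : x ∈ S) (h1 : x ^ M = 1) :
    Bd S M 1 := fun y hy => ⟨by
  rw [← orderOf_dvd_iff_pow_eq_one, h.ord y hy x hx, orderOf_dvd_iff_pow_eq_one, h1],
  (h.bd y hy).2⟩

theorem peel [CharP k 2] (h : Stab q R) {α : k} (hα : α ∈ R) (h1 : α ≠ 1) :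
    ∃ d N S R', Bk q d N S ∧ α ^ N = 1 ∧ (∀ x ∈ S, orderOf x = orderOf α) ∧ R = S + R' ∧
      Stab q R' ∧ R.card = 2 * d + R'.card := by
  obtain ⟨d, N, S, R', h2, h3, h4, h5, h6, h7⟩ := h.orbit hα fun h => h1 (by
    have : (α - 1) ^ 2 = 0 := by rw [sub_pow_char, h, one_pow, sub_self]
    exact sub_eq_zero.1 (pow_eq_zero_iff two_ne_zero |>.1 this))
  refine ⟨d, N, S.val, R', ⟨h2, fun x hx => ⟨?_, nodup_iff_count_le_one.1 S.nodup x⟩,
    fun x hx h => h1 ?_, fun x hx y hy => (h7 x hx).1.trans (h7 y hy).1.symm⟩, h3,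
    fun x hx => (h7 x hx).1, h4, h5, h6⟩
  · rw [← orderOf_dvd_iff_pow_eq_one, (h7 x hx).1, orderOf_dvd_iff_pow_eq_one, h3]
  · rw [← orderOf_eq_one_iff, ← (h7 x hx).1, h, orderOf_one]

theorem peel' [CharP k 2] (h : Stab q R) : (∀ x ∈ R, x = 1) ∨
    ∃ d N S R', Bk q d N S ∧ R = S + R' ∧ Stab q R' ∧ R.card = 2 * d + R'.card := by
  by_cases h1 : ∀ x ∈ R, x = 1
  · exact Or.inl h1
  · push Not at h1
    obtain ⟨α, hα, h1⟩ := h1
    obtain ⟨d, N, S, R', h2, -, -, h3⟩ := peel h hα h1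
    exact Or.inr ⟨d, N, S, R', h2, h3⟩

theorem pm_cases {d N : ℕ} (h : Pm q d N) : N = q ^ d + 1 ∨ N = q ^ d - 1 := by
  rcases h.2 with h | h
  · right; omega
  · exact Or.inl h

theorem dvd_pm {d N : ℕ} (h : Pm q d N) : N ∣ q ^ (2 * d) - 1 := by
  rw [mul_comm, pow_mul, ← one_pow 2, Nat.pow_two_sub_pow_two]
  rcases pm_cases h with rfl | rfl <;> simp

theorem comb [CharP k 2] (h : Stab q R) (hc : R.card = 8) :
    ∃ M j, Mu q (M * 2 ^ j) ∧ Bd R M (2 ^ j) := by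
  have d1 : q + 1 ∣ q ^ 3 + 1 := by simpa using Odd.nat_add_dvd_pow_add_pow q 1 (n := 3) (by decide)
  have d2 : q - 1 ∣ q ^ 3 - 1 := by simpa using Nat.sub_dvd_pow_sub_pow q 1 3
  have d3 : q ^ 2 - 1 ∣ q ^ 4 - 1 := by
    have := Nat.sub_dvd_pow_sub_pow (q ^ 2) 1 2
    rwa [← pow_mul, one_pow] at this
  by_cases hd : ∃ d N S R', Bk q d N S ∧ R = S + R' ∧ Stab q R' ∧ R.card = 2 * d + R'.card ∧ 3 ≤ d
  · obtain ⟨d, N, S, R', h1, rfl, h2, h3, h4⟩ := hd
    obtain rfl | rfl : d = 4 ∨ d = 3 := by omega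
    · obtain rfl : R' = 0 := card_eq_zero.1 (by omega)
      refine ⟨N, 0, ?_, by simpa using h1.bd⟩
      rcases pm_cases h1.pm with rfl | rfl <;> simp [Mu]
    have m2 : Mu q (N * 2 ^ 1) := by rcases pm_cases h1.pm with rfl | rfl <;> simp [Mu]
    rcases peel' h2 with h5 | ⟨d, N', S', R'', h5, rfl, -, h6⟩
    · refine ⟨N, 1, m2, (h1.bd.mono dvd_rfl (by norm_num)).disj
        ((bd_one h5 N).mono dvd_rfl (by omega)) fun x hx hx' => h1.ne x hx (h5 x hx')⟩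
    have := h5.pm.1
    obtain rfl : d = 1 := by omega
    obtain rfl : R'' = 0 := card_eq_zero.1 (by omega)
    rw [add_zero]
    by_cases h7 : ∀ x ∈ S, x ∉ S'
    · obtain ⟨M, h8, h9, h10⟩ : ∃ M, Mu q M ∧ N ∣ M ∧ N' ∣ M := by
        rcases pm_cases h1.pm with rfl | rfl <;> rcases pm_cases h5.pm with rfl | rfl <;>
          rw [pow_one]
        · exact ⟨(q ^ 3 + 1) * (q - 1), by simp [Mu], by simp, d1.mul_right _⟩
        · exact ⟨(q ^ 3 + 1) * (q - 1), by simp [Mu], by simp, by simp⟩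
        · exact ⟨(q ^ 3 - 1) * (q + 1), by simp [Mu], by simp, by simp⟩
        · exact ⟨(q ^ 3 - 1) * (q + 1), by simp [Mu], by simp, d2.mul_right _⟩
      exact ⟨M, 0, by simpa using h8, (h1.bd.mono h9 le_rfl).disj (h5.bd.mono h10 le_rfl) h7⟩
    · push Not at h7
      obtain ⟨x, hx, hx'⟩ := h7
      exact ⟨N, 1, m2, h1.bd.add (h5.same hx' (h1.bd x hx).1)⟩
  have h4 : ∀ x ∈ R, x ^ (q ^ 4 - 1) = 1 := fun x hx => by
    by_cases h1 : x = 1
    · rw [h1, one_pow]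
    obtain ⟨d, N, S, R', h2, h3, -, h5, h6, h7⟩ := peel h hx h1
    have h8 : d < 3 := by
      by_contra h8
      exact hd ⟨d, N, S, R', h2, h5, h6, h7, by omega⟩
    have := h2.pm.1
    rw [← orderOf_dvd_iff_pow_eq_one] at h3 ⊢
    obtain rfl | rfl : d = 1 ∨ d = 2 := by omega
    · exact h3.trans ((dvd_pm h2.pm).trans d3)
    · exact h3.trans (dvd_pm h2.pm)
  by_cases hn : ∀ x ∈ R, R.count x ≤ 1
  · exact ⟨q ^ 4 - 1, 0, by simp [Mu], fun x hx => ⟨h4 x hx, hn x hx⟩⟩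
  have hn' : ∀ M, ¬ Bd R M 1 := fun M h => hn fun x hx => (h x hx).2
  have h4' : ∀ {d N S}, S ≤ R → Bk q d N S → Bd S (q ^ 4 - 1) 1 := fun h h' x hx =>
    ⟨h4 x (mem_of_le h hx), (h'.bd x hx).2⟩
  by_cases h2 : ∀ x ∈ R, x ^ (q ^ 2 - 1) = 1
  · by_cases h5 : ∀ x ∈ R, R.count x ≤ 4
    · exact ⟨q ^ 2 - 1, 2, by simp [Mu], fun x hx => ⟨h2 x hx, h5 x hx⟩⟩
    push Not at h5
    obtain ⟨α, hα, h5⟩ := h5
    obtain rfl : α = 1 := by
      by_contra h6
      have h7 : α⁻¹ ≠ α := fun h7 => h6 (by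
        have : (α - 1) ^ 2 = 0 := by
          rw [sub_pow_char, pow_two, one_pow]
          nth_rewrite 1 [← h7]
          rw [inv_mul_cancel₀ (h.ne α hα), sub_self]
        exact sub_eq_zero.1 (pow_eq_zero_iff two_ne_zero |>.1 this))
      have h8 : R.count α⁻¹ = R.count α := by
        conv_lhs => rw [← h.inv]
        exact count_map_eq_count' _ _ inv_injective α
      have := card_mul_le (R := R) (S := {α⁻¹, α}) (e := 5) (by
        intro x hx
        rcases Finset.mem_insert.1 hx with rfl | hx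
        · omega
        · rw [Finset.mem_singleton.1 hx]; omega)
      rw [Finset.card_pair h7] at this
      omega
    rcases peel' h with h6 | ⟨d, N, S, R', h6, rfl, h7, h8⟩
    · exact ⟨q + 1, 3, by simp [Mu], (bd_one h6 _).mono dvd_rfl (by omega)⟩
    rw [count_add, count_eq_zero_of_notMem fun h => h6.ne 1 h rfl, zero_add] at h5
    have := count_le_card 1 R'
    have := h6.pm.1
    obtain rfl : d = 1 := by omega
    rcases peel' h7 with h9 | ⟨d, N', S', R'', h9, rfl, -, h10⟩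
    · refine ⟨N, 3, ?_, (h6.bd.add (bd_one h9 N)).mono dvd_rfl (by omega)⟩
      rcases pm_cases h6.pm with rfl | rfl <;> simp [Mu]
    · rw [count_add, count_eq_zero_of_notMem fun h => h9.ne 1 h rfl, zero_add] at h5
      have := count_le_card 1 R''
      have := h9.pm.1
      omega
  push Not at h2
  obtain ⟨α, hα, h2⟩ := h2
  obtain ⟨d, N, S, R', h5, h6, h7, rfl, h8, h9⟩ := peel h hα fun h => h2 (by rw [h, one_pow])
  have h10 : d < 3 := by
    by_contra h10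
    exact hd ⟨d, N, S, R', h5, rfl, h8, h9, by omega⟩
  have := h5.pm.1
  rw [← orderOf_dvd_iff_pow_eq_one] at h6
  rw [Ne, ← orderOf_dvd_iff_pow_eq_one] at h2
  obtain rfl | rfl : d = 1 ∨ d = 2 := by omega
  · exact (h2 (h6.trans (dvd_pm h5.pm))).elim
  obtain rfl : N = q ^ 2 + 1 := (pm_cases h5.pm).resolve_right fun h => h2 (h ▸ h6)
  have hS : ∀ {N' S'}, Bk q 1 N' S' → ∀ x ∈ S, x ∉ S' := fun h x hx hx' => h2 (by
    rw [← h7 x hx]
    exact (orderOf_dvd_iff_pow_eq_one.2 (h.bd x hx').1).trans (dvd_pm h.pm))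
  rcases peel' h8 with h11 | ⟨d, N', S', R'', h11, rfl, h12, h13⟩
  · exact ⟨q ^ 2 + 1, 2, by simp [Mu], (h5.bd.mono dvd_rfl (by norm_num)).disj
      ((bd_one h11 _).mono dvd_rfl (by omega)) fun x hx hx' => h5.ne x hx (h11 x hx')⟩
  have := h11.pm.1
  obtain rfl | rfl : d = 2 ∨ d = 1 := by omega
  · obtain rfl : R'' = 0 := card_eq_zero.1 (by omega)
    by_cases h14 : ∀ x ∈ S, x ∉ S'
    · refine (hn' (q ^ 4 - 1) ?_).elim
      rw [add_zero] at h4' ⊢
      exact (h4' le_self_add h5).disj (h4' le_add_self h11) h14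
    · push Not at h14
      obtain ⟨x, hx, hx'⟩ := h14
      rw [add_zero]
      exact ⟨q ^ 2 + 1, 2, by simp [Mu],
        (h5.bd.add (h11.same hx' (h5.bd x hx).1)).mono dvd_rfl (by norm_num)⟩
  have m2 : Mu q ((q ^ 2 + 1) * N' * 2 ^ 1) := by
    rcases pm_cases h11.pm with rfl | rfl <;> simp [Mu]
  have b1 : Bd S ((q ^ 2 + 1) * N') (2 ^ 1) := h5.bd.mono (by simp) (by norm_num)
  have b2 : Bd S' ((q ^ 2 + 1) * N') 1 := h11.bd.mono (by simp) le_rfl
  rcases peel' h12 with h14 | ⟨d, N'', S'', R''', h14, rfl, -, h15⟩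
  · refine ⟨_, 1, m2, b1.disj ((b2.mono dvd_rfl (by norm_num)).disj
      ((bd_one h14 _).mono dvd_rfl (by omega)) fun x hx hx' => h11.ne x hx (h14 x hx'))
      fun x hx hx' => ?_⟩
    rcases mem_add.1 hx' with hx' | hx'
    · exact hS h11 x hx hx'
    · exact h5.ne x hx (h14 x hx')
  have := h14.pm.1
  obtain rfl : d = 1 := by omega
  obtain rfl : R''' = 0 := card_eq_zero.1 (by omega)
  rw [add_zero] at *
  have h16 : ∀ x ∈ S, x ∉ S' + S'' := fun x hx hx' =>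
    (mem_add.1 hx').elim (hS h11 x hx) (hS h14 x hx)
  by_cases h17 : ∀ x ∈ S', x ∉ S''
  · exact (hn' (q ^ 4 - 1) ((h4' le_self_add h5).disj ((h4' (le_self_add.trans le_add_self) h11).disj
      (h4' (le_add_self.trans le_add_self) h14) h17) h16)).elim
  · push Not at h17
    obtain ⟨x, hx, hx'⟩ := h17
    exact ⟨_, 1, m2, b1.disj (b2.add (h14.same hx' (b2 x hx).1)) h16⟩

end comb

variable {F V : Type*} [Field F] [AddCommGroup V] [Module F V] [FiniteDimensional F V]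

theorem exists_charpoly_dvd [Fintype F] [CharP F 2] {B : V →ₗ[F] V →ₗ[F] F}
    (sep : ∀ x, (∀ y, B x y = 0) → x = 0) {a : End F V} (ha : ∀ x y, B (a x) (a y) = B x y)
    (hV : finrank F V = 8) : ∃ N, Mu (Fintype.card F) N ∧ a.charpoly ∣ X ^ N - 1 := by
  classical
  obtain ⟨M, j, h1, h2⟩ := comb (stab_rts sep (a := a) ha) ((card_rts a).trans hV)
  refine ⟨_, h1, ?_⟩
  rcases Nat.eq_zero_or_pos M with rfl | hM
  · simp
  rw [← map_dvd_map' (algebraMap F (AlgebraicClosure F))]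
  refine (IsAlgClosed.splits _).dvd_of_roots_le_roots (a.charpoly_monic.map _).ne_zero ?_
  have : (X ^ (M * 2 ^ j) - 1 : F[X]).map (algebraMap F (AlgebraicClosure F)) =
      (X ^ M - C 1) ^ 2 ^ j := by
    rw [sub_pow_char_pow, ← pow_mul]; simp
  rw [this, roots_pow, le_iff_count]
  intro x
  by_cases hx : x ∈ rts a
  · rw [count_nsmul]
    refine (h2 x hx).2.trans (Nat.le_mul_of_pos_right _ (count_pos.2 ?_))
    exact (mem_nthRoots hM).2 (h2 x hx).1
  · exact (count_eq_zero_of_notMem hx).trans_le (Nat.zero_le _)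

theorem pow_of_charpoly_dvd {a : End F V} {N : ℕ} (h : a.charpoly ∣ X ^ N - 1) : a ^ N = 1 := by
  obtain ⟨p, hp⟩ := h
  have := congrArg (aeval a) hp
  rw [map_mul, LinearMap.aeval_self_charpoly, zero_mul] at this
  simpa [sub_eq_zero] using this

theorem geom_of_charpoly_dvd {a : End F V} {N : ℕ} (h : a.charpoly ∣ X ^ N - 1)
    (h2 : 2 ≤ finrank F (LinearMap.ker (a - 1))) : ∑ i ∈ Finset.range N, a ^ i = 0 := by
  classical
  have h1 : aeval a (∑ i ∈ Finset.range N, (X : F[X]) ^ i) = 0 := by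
    refine (aeval_eq_zero_iff_ed _ _).2 fun y hy => ?_
    obtain ⟨M, hM⟩ := exists_cons_of_mem hy
    have h3 := finrank_ker_aeval_pow a (monic_X_sub_C (1 : F)) (irreducible_X_sub_C 1) 1
    obtain ⟨z, hz, h4⟩ : ∃ z ∈ M, z.f = X - C 1 := by
      by_contra! h4
      rw [hM, map_cons, sum_cons, sum_eq_zero (by
        simp only [mem_map]
        rintro _ ⟨z, hz, rfl⟩
        rw [if_neg (h4 z hz)]), natDegree_X_sub_C] at h3
      have h5 : aeval a ((X - C 1 : F[X]) ^ 1) = a - 1 := by simp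
      rw [h5] at h3
      split_ifs at h3 <;> omega
    have h5 : y.poly * (X - 1) ∣ a.charpoly := by
      rw [charpoly_eq_prod_ed, hM, map_cons, prod_cons]
      refine mul_dvd_mul_left _ (dvd_trans ?_ (dvd_prod (mem_map_of_mem _ hz)))
      rw [← C_1, ← h4]; exact z.f_dvd_poly
    have h6 := h5.trans h
    rw [← geom_sum_mul] at h6
    exact (mul_dvd_mul_iff_right (by simpa using X_sub_C_ne_zero (1 : F))).1 h6
  simpa using h1

end Cfsg.Agent.H23
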