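import Cfsg.Agent.H13.EO1
import Cfsg.Agent.H13.Count
import Cfsg.Agent.H23.Aff

/-! Elements of prescribed order in orthogonal groups of characteristic two. -/

set_option autoImplicit false

namespace Cfsg.Agent.H23

open Module H13 QuadraticMap

universe u

variable {F : Type u} [Field F]

section prod

variable {V W : Type*} [AddCommGroup V] [Module F V] [AddCommGroup W] [Module F W]

/-- orthogonal sum of isometries -/
def prodOG (Q : QuadraticForm F V) (R : QuadraticForm F W) : OG Q × OG R →* OG (Q.prod R) where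
  toFun x := ⟨x.1.1.prodCongr x.2.1, fun v => by simp⟩
  map_one' := OG_ext fun _ => rfl
  map_mul' _ _ := OG_ext fun _ => rfl

variable {Q : QuadraticForm F V} {R : QuadraticForm F W}

theorem prodOG_apply (x : OG Q × OG R) (v : V × W) :
    (prodOG Q R x).1 v = (x.1.1 v.1, x.2.1 v.2) := rfl

theorem prodOG_inj : Function.Injective (prodOG Q R) := (injective_iff_map_eq_one _).2 fun x h =>
  Prod.ext (OG_ext fun v => congrArg (fun g : OG (Q.prod R) => (g.1 (v, 0)).1) h)
    (OG_ext fun v => congrArg (fun g : OG (Q.prod R) => (g.1 (0, v)).2) h)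

theorem prodOG_refl (v : W) : prodOG Q R (1, refl R v) = refl (Q.prod R) (0, v) :=
  OG_ext fun x => Prod.ext (by simp [prodOG_apply, refl_apply, OG_one_apply])
    (by simp [prodOG_apply, refl_apply])

end prod

/-- an element of order `M` in an orthogonal group of dimension `2n` -/
def Tor (F : Type u) [Field F] (n : ℕ) (ε : Prop) (M : ℕ) : Prop :=
  ∃ (V : Type u) (_ : AddCommGroup V) (_ : Module F V) (_ : FiniteDimensional F V)
    (Q : QuadraticForm F V) (s : OG Q), ND Q ∧ finrank F V = 2 * n ∧ (IsPlus Q ↔ ε) ∧ orderOf s = M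

/-- an element of order divisible by `N` in the affine group of `Ω` -/
def ATor (F : Type u) [Field F] (n : ℕ) (ε : Prop) (N : ℕ) : Prop :=
  ∃ (V : Type u) (_ : AddCommGroup V) (_ : Module F V) (_ : FiniteDimensional F V)
    (Q : QuadraticForm F V) (s : OG Q) (w : V), ND Q ∧ finrank F V = 2 * n ∧ (IsPlus Q ↔ ε) ∧
    (∀ δ : OG Q →* ℤˣ, (∀ v, Q v ≠ 0 → δ (refl Q v) = -1) → δ s = 1) ∧
    ∀ k, s ^ k = 1 → (∑ i ∈ Finset.range k, (s ^ i).1 w) = 0 → N ∣ k

variable {n n' M M' : ℕ} {ε ε' : Prop}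

theorem Tor.of {V : Type*} [AddCommGroup V] [Module F V] [FiniteDimensional F V]
    {Q : QuadraticForm F V} (s : OG Q) (h : ND Q) (h1 : finrank F V = 2 * n) (h2 : IsPlus Q ↔ ε)
    (h3 : orderOf s = M) : Tor F n ε M := by
  let e := (finBasis F V).equivFun
  have he : ∀ v, Q.comp (e.symm : _ →ₗ[F] V) (e v) = Q v := fun v => by simp
  have I : Iso Q (Q.comp (e.symm : _ →ₗ[F] V)) := ⟨e, he⟩
  exact ⟨_, _, _, inferInstance, _, (SemiSim.ofIsometry e he).conj s, I.nd h, I.finrank_eq ▸ h1,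
    Iff.trans ⟨I.symm.isPlus, I.isPlus⟩ h2, (MulEquiv.orderOf_eq _ _).trans h3⟩

theorem Tor.congr (h : Tor F n ε M) (h1 : ε ↔ ε') : Tor F n ε' M := propext h1 ▸ h

theorem ATor.congr (h : ATor F n ε M) (h1 : ε ↔ ε') : ATor F n ε' M := propext h1 ▸ h

theorem Tor.prod [Fintype F] (h : Tor F n ε M) (h' : Tor F n' ε' M') (hc : M.Coprime M') :
    Tor F (n + n') (ε ↔ ε') (M * M') := by
  obtain ⟨V, _, _, _, Q, s, h1, h2, h3, rfl⟩ := h
  obtain ⟨W, _, _, _, R, t, h4, h5, h6, rfl⟩ := h'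
  refine ⟨V × W, _, _, inferInstance, Q.prod R, prodOG Q R (s, t), h1.prod h4, ?_, ?_, ?_⟩
  · rw [finrank_prod, h2, h5, mul_add]
  · rw [isPlus_prod_iff h1 h4 (h2 ▸ even_two_mul _) (h5 ▸ even_two_mul _), h3, h6]
  · rw [orderOf_injective _ prodOG_inj, Prod.orderOf_mk, hc.lcm_eq_mul]

theorem map_eq_one_of_odd {G : Type*} [Group G] (δ : G →* ℤˣ) {s : G} (h : Odd (orderOf s)) :
    δ s = 1 := by
  rcases Int.units_eq_one_or (δ s) with h1 | h1
  · exact h1
  · have := congrArg δ (pow_orderOf_eq_one s)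
    rw [map_pow, h1, h.neg_one_pow, map_one] at this
    exact absurd this (by decide)

theorem Tor.ator (h : Tor F n ε M) (ho : Odd M) : ATor F n ε M := by
  obtain ⟨V, _, _, _, Q, s, h1, h2, h3, rfl⟩ := h
  exact ⟨V, _, _, inferInstance, Q, s, 0, h1, h2, h3, fun δ _ => map_eq_one_of_odd δ ho,
    fun k hk _ => orderOf_dvd_of_pow_eq_one hk⟩

theorem Tor.aprod [Fintype F] (h : Tor F n ε M) (h' : ATor F n' ε' M') (ho : Odd M)
    (hc : M.Coprime M') : ATor F (n + n') (ε ↔ ε') (M * M') := by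
  obtain ⟨V, _, _, _, Q, s, h1, h2, h3, rfl⟩ := h
  obtain ⟨W, _, _, _, R, t, w, h4, h5, h6, h7, h8⟩ := h'
  refine ⟨V × W, _, _, inferInstance, Q.prod R, prodOG Q R (s, t), (0, w), h1.prod h4, ?_, ?_,
    fun δ hδ => ?_, fun k hk hk' => ?_⟩
  · rw [finrank_prod, h2, h5, mul_add]
  · rw [isPlus_prod_iff h1 h4 (h2 ▸ even_two_mul _) (h5 ▸ even_two_mul _), h3, h6]
  · have e1 := map_eq_one_of_odd (δ.comp ((prodOG Q R).comp (MonoidHom.inl _ _))) ho
    have e2 := h7 (δ.comp ((prodOG Q R).comp (MonoidHom.inr _ _))) fun v hv => by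
      rw [← hδ (0, v) (by simpa using hv), ← prodOG_refl]; rfl
    rw [show ((s, t) : OG Q × OG R) = (s, 1) * (1, t) by simp, map_mul, map_mul]
    exact (congrArg₂ (· * ·) e1 e2).trans (mul_one 1)
  · rw [← map_pow, map_eq_one_iff _ prodOG_inj, Prod.pow_mk, Prod.mk_eq_one] at hk
    refine hc.mul_dvd_of_dvd_of_dvd (orderOf_dvd_of_pow_eq_one hk.1) (h8 k hk.2 ?_)
    have := congrArg Prod.snd hk'
    rw [Prod.snd_sum] at this
    simpa only [← map_pow, prodOG_apply, Prod.pow_snd, Prod.snd_zero] using this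

section tori

variable [Fintype F] [CharP F 2]

theorem exists_ext {d : ℕ} (hd : 0 < d) : ∃ (K : Type) (_ : Field K) (_ : Algebra F K) (_ : Finite K),
    finrank F K = d ∧ Nat.card K = Fintype.card F ^ d := by
  haveI : NeZero d := ⟨hd.ne'⟩
  exact ⟨FiniteField.Extension F 2 d, _, inferInstance, inferInstance,
    FiniteField.finrank_extension F 2 d,
    by rw [FiniteField.natCard_extension, Nat.card_eq_fintype_card]⟩

theorem tor_plus {d : ℕ} (hd : 0 < d) : Tor F d True (Fintype.card F ^ d - 1) := by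
  obtain ⟨K, _, _, _, hK, hc⟩ := exists_ext (F := F) hd
  obtain ⟨μ, hμ⟩ := Module.Projective.exists_dual_eq_one F (one_ne_zero (α := K))
  let Q : QuadraticForm F (K × K) := LinearMap.BilinMap.toQuadraticMap
    (((LinearMap.mul F K).compr₂ μ).compl₁₂ (LinearMap.fst F K K) (LinearMap.snd F K K))
  have hQ : ∀ x, Q x = μ (x.1 * x.2) := fun _ => rfl
  have hp : ∀ x y, polar Q x y = μ (x.1 * y.2) + μ (y.1 * x.2) := fun x y => by
    simp [polar, hQ, add_mul, mul_add]; ring
  let f : Kˣ →* OG Q := MonoidHom.mk' (fun a => ⟨(LinearEquiv.restrictScalars F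
    (LinearEquiv.smulOfUnit a)).prodCongr (LinearEquiv.restrictScalars F
    (LinearEquiv.smulOfUnit a⁻¹)), fun v => by
      rw [hQ, hQ]
      change μ (a * v.1 * (↑a⁻¹ * v.2)) = _
      congr 1
      rw [mul_mul_mul_comm, Units.mul_inv, one_mul]⟩) fun a b => OG_ext fun v => by
    change ((a * b : Kˣ) * v.1, ↑(a * b)⁻¹ * v.2) = ((a * (b * v.1), ↑a⁻¹ * (↑b⁻¹ * v.2)) : K × K)
    simp [mul_assoc, mul_left_comm]
  have hf : Function.Injective f := (injective_iff_map_eq_one _).2 fun a h => by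
    have : (a : K) * 1 = 1 := congrArg (fun g : OG Q => (g.1 (1, 0)).1) h
    exact Units.ext (by simpa using this)
  obtain ⟨a, ha⟩ := IsCyclic.exists_ofOrder_eq_natCard (α := Kˣ)
  refine Tor.of (f a) (fun x hx => ?_) (by rw [finrank_prod, hK, two_mul]) ?_ ?_
  · ext
    · by_contra h
      have h : x.1 ≠ 0 := h
      simpa [hp, h, hμ] using hx (0, x.1⁻¹)
    · by_contra h
      have h : x.2 ≠ 0 := h
      simpa [hp, h, hμ] using hx (x.2⁻¹, 0)
  · refine iff_true_intro (isPlus_of_map (j := LinearMap.inl F K K) LinearMap.inl_injective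
      (fun x => by simp [hQ]) (by rw [finrank_prod, two_mul]))
  · rw [orderOf_injective _ hf, ha, Nat.card_units, hc]

theorem even_card : Even (Fintype.card F) := by
  obtain ⟨n, -, h⟩ := FiniteField.card F 2
  rw [h]; exact (Nat.even_pow.2 ⟨even_two, n.ne_zero⟩)

theorem dvd_card_of_free {G X : Type*} [Group G] [Finite G] [Finite X] [MulAction G X]
    (h : ∀ (g : G) (x : X), g • x = x → g = 1) : Nat.card G ∣ Nat.card X := by
  have e := MulAction.selfEquivOrbitsQuotientProd (G := G) (X := X) fun x =>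
    (Subgroup.eq_bot_iff_forall _).2 fun g hg => h g x hg
  rw [Nat.card_congr e, Nat.card_prod]
  exact Dvd.intro_left _ rfl

theorem tor_minus {d : ℕ} (hd : 0 < d) : Tor F d False (Fintype.card F ^ d + 1) := by
  obtain ⟨K, _, _, _, hK, hc⟩ := exists_ext (F := F) (d := 2 * d) (by omega)
  haveI : CharP K 2 := charP_of_injective_algebraMap (algebraMap F K).injective 2
  let σ := FiniteField.frobeniusAlgEquivOfAlgebraic F K ^ d
  have hσ : ∀ x, σ x = x ^ Fintype.card F ^ d := fun x => by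
    rw [AlgEquiv.coe_pow, FiniteField.coe_frobeniusAlgEquivOfAlgebraic_iterate]
  have ho := FiniteField.orderOf_frobeniusAlgEquivOfAlgebraic F K
  have hσ2 : ∀ x, σ (σ x) = x := fun x => by
    rw [← AlgEquiv.mul_apply, ← pow_add, ← two_mul, ← hK, ← ho, pow_orderOf_eq_one]; rfl
  obtain ⟨z, hz⟩ : ∃ z, z + σ z ≠ 0 := by
    by_contra! h
    have : σ = 1 := AlgEquiv.ext fun z => (CharTwo.add_eq_zero.1 (h z)).symm
    have := Nat.le_of_dvd hd (orderOf_dvd_of_pow_eq_one this)
    omega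
  obtain ⟨μ, hμ⟩ := Module.Projective.exists_dual_eq_one F hz
  let Q : QuadraticForm F K := LinearMap.BilinMap.toQuadraticMap
    (((LinearMap.mul F K).compr₂ μ).compl₁₂ LinearMap.id σ.toLinearMap)
  have hQ : ∀ x, Q x = μ (x * σ x) := fun _ => rfl
  have hp : ∀ x y, polar Q x y = μ (x * σ y + y * σ x) := fun x y => by
    simp [polar, hQ, add_mul, mul_add]; ring
  have hN : ND Q := fun x hx => by
    by_contra h
    have := hx (σ (x⁻¹ * z))
    rw [hp, hσ2, mul_inv_cancel_left₀ h, ← map_mul, mul_comm _ x, mul_inv_cancel_left₀ h,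
      hμ] at this
    exact one_ne_zero this
  have h2 : 2 ≤ Fintype.card F := Fintype.one_lt_card
  obtain ⟨a, ha⟩ : ∃ a : Kˣ, orderOf a = Fintype.card F ^ d + 1 := by
    obtain ⟨a, ha⟩ := IsCyclic.exists_ofOrder_eq_natCard (α := Kˣ)
    refine mem_range_orderOf_of_dvd (x := a) ?_
    rw [ha, Nat.card_units, hc, mul_comm, pow_mul, ← one_pow 2, Nat.pow_two_sub_pow_two]
    simp
  have ha' : ∀ b : Subgroup.zpowers a, (b.1 : K) * σ b.1 = 1 := fun b => by
    rw [hσ, ← pow_succ', ← Units.val_pow_eq_pow_val, ← ha, ← Nat.card_zpowers,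
      ← Subgroup.coe_pow, pow_card_eq_one']
    rfl
  let f : Subgroup.zpowers a →* OG Q := MonoidHom.mk' (fun b => ⟨LinearEquiv.restrictScalars F
    (LinearEquiv.smulOfUnit b.1), fun v => by
      rw [hQ, hQ]
      change μ (b.1 * v * σ (b.1 * v)) = _
      rw [map_mul σ, mul_mul_mul_comm, ha', one_mul]⟩) fun a b => OG_ext fun v => by
    change (a.1 * b.1 : Kˣ) * v = (a.1 * (b.1 * v) : K)
    simp [mul_assoc]
  have hf' : ∀ b v, (f b).1 v = b.1 * v := fun _ _ => rfl
  have hf : Function.Injective f := (injective_iff_map_eq_one _).2 fun a h => by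
    have : (a.1 : K) * 1 = 1 := congrArg (fun g : OG Q => g.1 1) h
    exact Subtype.ext (Units.ext (by simpa using this))
  refine Tor.of (f ⟨a, Subgroup.mem_zpowers a⟩) hN hK (iff_false_intro fun hP => ?_) ?_
  · letI : MulAction (Subgroup.zpowers a) {x : K // Q x = 0 ∧ x ≠ 0} :=
      { smul b x := ⟨(f b).1 x, by rw [OG_map, x.2.1], by simpa using x.2.2⟩
        one_smul x := Subtype.ext (by change (f 1).1 x = x; rw [map_one]; rfl)
        mul_smul b c x := Subtype.ext (by
          change (f (b * c)).1 x = (f b).1 ((f c).1 x); rw [map_mul]; rfl) }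
    have h3 := dvd_card_of_free (G := Subgroup.zpowers a) (X := {x : K // Q x = 0 ∧ x ≠ 0})
      fun b x h => Subtype.ext (Units.ext (mul_right_cancel₀ x.2.2
        ((congrArg Subtype.val h).trans (one_mul _).symm)))
    rw [Nat.card_zpowers, ha, card_nonzero_singular, hN.nz_plus hP hd hK,
      Nat.card_eq_fintype_card] at h3
    obtain ⟨e, rfl⟩ : ∃ e, d = e + 1 := ⟨d - 1, by omega⟩
    have h4 := (even_card (F := F)).two_dvd
    generalize Fintype.card F = q at h2 h3 h4
    have h5 : 1 ≤ q ^ e := Nat.one_le_pow _ _ (by omega)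
    have h6 : q ^ (e + 1) = q * q ^ e := pow_succ' _ _
    have h7 : q ^ (2 * (e + 1) - 1) = q ^ e * q ^ (e + 1) := by
      rw [← pow_add]; congr 1; omega
    rw [h7, Nat.add_sub_cancel] at h3
    have h8 : 2 * q ^ e ≤ q ^ (e + 1) := h6 ▸ Nat.mul_le_mul_right _ h2
    have h9 : q ^ (e + 1) + 1 ∣ 2 * (q ^ e + 1) := by
      refine (Nat.dvd_add_right h3).1 ⟨q ^ e + 1, ?_⟩
      have : q ^ e + 1 ≤ q ^ e * q ^ (e + 1) + q ^ (e + 1) := by omega
      zify [this, show q ^ e ≤ q ^ e * q ^ (e + 1) + q ^ (e + 1) by omega,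
        show 1 ≤ q ^ e * q ^ (e + 1) + q ^ (e + 1) - q ^ e by omega]
      ring
    have h10 : (q ^ (e + 1) + 1).Coprime 2 := by
      rw [Nat.coprime_two_right, Nat.odd_add_one, Nat.not_odd_iff_even, h6]
      exact (even_iff_two_dvd.2 h4).mul_right _
    have := Nat.le_of_dvd (by omega) (h10.dvd_of_dvd_mul_left h9)
    omega
  · rw [orderOf_injective _ hf, Subgroup.orderOf_mk, ha]

end tori

end Cfsg.Agent.H23
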