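import Cfsg.Agent.H23.Sp8b
import Cfsg.Agent.H23.Sp8a

/-! Unipotent elements, and the lower bounds for the spectra. -/

set_option autoImplicit false

namespace Cfsg.Agent.H23

open Module H13 QuadraticMap

universe u

variable {F : Type u} [Field F]

/-- binary forms -/
def bq (c a b : F) : QuadraticForm F (F × F) :=
  c • linMulLin (LinearMap.fst F F F) (LinearMap.fst F F F) +
  a • linMulLin (LinearMap.fst F F F) (LinearMap.snd F F F) +
  b • linMulLin (LinearMap.snd F F F) (LinearMap.snd F F F)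

theorem bq_apply (c a b : F) (x : F × F) :
    bq c a b x = c * x.1 ^ 2 + a * x.1 * x.2 + b * x.2 ^ 2 := by
  simp [bq]; ring

theorem polar_bq [CharP F 2] (c a b : F) (x y : F × F) :
    polar (bq c a b) x y = a * (x.1 * y.2 + x.2 * y.1) := by
  simp only [polar, bq_apply, Prod.fst_add, Prod.snd_add]
  linear_combination (c * x.1 * y.1 + b * x.2 * y.2) * CharTwo.two_eq_zero (R := F)

theorem nd_bq [CharP F 2] (c : F) {a : F} (ha : a ≠ 0) (b : F) : ND (bq c a b) := fun x hx =>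
  Prod.ext (by simpa [polar_bq, ha] using hx (0, 1)) (by simpa [polar_bq, ha] using hx (1, 0))

theorem isPlus_bq (c a : F) : IsPlus (bq c a 0) :=
  isPlus_of_map (j := LinearMap.inr F F F) LinearMap.inr_injective (fun x => by simp [bq_apply])
    (by simp)

theorem exists_bq [Fintype F] [CharP F 2] (ε : Prop) :
    ∃ a b : F, a ≠ 0 ∧ (IsPlus (bq 1 a b) ↔ ε) := by
  by_cases h : ε
  · exact ⟨1, 0, one_ne_zero, iff_of_true (isPlus_bq _ _) h⟩
  · obtain ⟨a, b, hab⟩ := exists_anisotropic_binary F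
    refine ⟨a, b, fun ha => disc_ne_zero_of_anisotropic hab ?_, iff_of_false (fun hP => ?_) h⟩
    · rw [ha]; linear_combination -2 * b * CharTwo.two_eq_zero (R := F)
    · obtain ⟨x, hx, hx'⟩ := hP.exists_singular (by simp)
      have := hab x.1 x.2 (by simpa [bq_apply] using hx)
      exact hx' (Prod.ext this.1 this.2)

section unip

variable {V : Type*} [AddCommGroup V] [Module F V] {Q : QuadraticForm F V}

theorem og_coe_pow (g : OG Q) (k : ℕ) : ((g ^ k).1 : End F V) = (g.1 : End F V) ^ k :=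
  lin_pow (ρ := (OG Q).subtype) g k

theorem pow_two_pow_eq [CharP F 2] (g : OG Q) {n : V → V} (h : ∀ v, g.1 v = v + n v) (j : ℕ)
    (v : V) : (g ^ 2 ^ j).1 v = v + n^[2 ^ j] v := by
  rcases subsingleton_or_nontrivial V with _ | _
  · exact Subsingleton.elim _ _
  haveI : CharP (End F V) 2 := charP_of_injective_algebraMap (algebraMap F _).injective 2
  have h1 : n = ⇑((g.1 : End F V) - 1) := funext fun v => by simp [h]
  have h2 := sub_pow_char_pow_of_commute 2 j (Commute.one_right (g.1 : End F V))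
  rw [h1, ← End.coe_pow, h2, one_pow, ← og_coe_pow]
  simp

theorem orderOf_unip [CharP F 2] (g : OG Q) {n : V → V} (h : ∀ v, g.1 v = v + n v) (j : ℕ)
    (h1 : ∀ v, n^[2 ^ (j + 1)] v = 0) (h2 : ∃ v, n^[2 ^ j] v ≠ 0) : orderOf g = 2 ^ (j + 1) := by
  refine orderOf_eq_prime_pow (fun h3 => ?_) (OG_ext fun v => ?_)
  · obtain ⟨v, hv⟩ := h2
    have := pow_two_pow_eq g h j v
    rw [h3, OG_one_apply] at this
    exact hv (by simpa using this)
  · rw [pow_two_pow_eq g h, h1, add_zero, OG_one_apply]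

theorem aff_dvd [CharP F 2] (g : OG Q) (w : V) (j : ℕ) (h1 : g ^ 2 ^ j = 1)
    (h2 : ∑ i ∈ Finset.range (2 ^ j), (g ^ i).1 w ≠ 0) (k : ℕ) (h3 : g ^ k = 1)
    (h4 : ∑ i ∈ Finset.range k, (g ^ i).1 w = 0) : 2 ^ (j + 1) ∣ k := by
  let x : Aff (OG Q).subtype := ⟨Multiplicative.ofAdd w, g⟩
  have h5 : ∀ k, (∑ i ∈ Finset.range k, x.lin ^ i) x.left.toAdd =
      ∑ i ∈ Finset.range k, (g ^ i).1 w := fun k => by
    rw [LinearMap.sum_apply]
    exact Finset.sum_congr rfl fun i _ => by rw [Aff.lin, ← lin_pow]; rfl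
  rw [← orderOf_eq_prime_pow (x := x) (fun h => h2 (h5 _ ▸ ((x.pow_eq_one_iff _).1 h).2))
    (by rw [pow_succ]; exact x.pow_of_char 2 h1)]
  exact orderOf_dvd_of_pow_eq_one ((x.pow_eq_one_iff _).2 ⟨h3, (h5 k).trans h4⟩)

end unip

variable [Fintype F] [CharP F 2]

/-- four-dimensional form -/
abbrev q4 (a b : F) : QuadraticForm F ((F × F) × F × F) := (bq 0 1 0).prod (bq 1 a b)

/-- six-dimensional form -/
abbrev q6 (a b : F) : QuadraticForm F ((F × F) × (F × F) × F × F) := (bq 0 1 0).prod (q4 a b)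

omit [Fintype F] in
theorem nd_q4 {a : F} (ha : a ≠ 0) (b : F) : ND (q4 a b) :=
  (nd_bq _ one_ne_zero _).prod (nd_bq _ ha _)

omit [Fintype F] in
theorem nd_q6 {a : F} (ha : a ≠ 0) (b : F) : ND (q6 a b) :=
  (nd_bq _ one_ne_zero _).prod (nd_q4 ha _)

theorem isPlus_q4 {a : F} (ha : a ≠ 0) (b : F) : IsPlus (q4 a b) ↔ IsPlus (bq 1 a b) := by
  rw [isPlus_prod_iff (nd_bq _ one_ne_zero _) (nd_bq _ ha _) (by simp) (by simp)]
  simp [isPlus_bq]

theorem isPlus_q6 {a : F} (ha : a ≠ 0) (b : F) : IsPlus (q6 a b) ↔ IsPlus (bq 1 a b) := by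
  rw [isPlus_prod_iff (nd_bq _ one_ne_zero _) (nd_q4 ha _) (by simp) (by simp; decide),
    isPlus_q4 ha]
  simp [isPlus_bq]

theorem tor_two (ε : Prop) : Tor F 1 ε 2 := by
  obtain ⟨a, b, ha, h⟩ := exists_bq (F := F) ε
  exact Tor.of (refl (bq 1 a b) (1, 0)) (nd_bq _ ha _) (by simp) h
    (orderOf_eq_prime (by rw [pow_two, refl_mul_self])
      (refl_ne_one (nd_bq _ ha _) (by simp [bq_apply])))

/-- regular unipotent element in dimension four -/
noncomputable def u4 (a b : F) : OG (q4 a b) :=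
  sieg (q4 a b) ((1, 0), 0) (0, (0, 1)) * refl (q4 a b) (0, (1, 0))

omit [Fintype F] in
theorem u4_apply (a b : F) (v : (F × F) × F × F) : (u4 a b).1 v =
    v + ((a * v.2.1 + a * a * v.2.2 + b * v.1.2, 0), (a * v.2.2, v.1.2)) := by
  rw [u4, OG_mul_apply, sieg_apply (by simp [bq_apply]) (by simp [polar_bq]), refl_apply]
  ext <;> simp [polar_bq, bq_apply, CharTwo.sub_eq_add] <;> ring

omit [Fintype F] in
theorem orderOf_u4 {a : F} (ha : a ≠ 0) (b : F) : orderOf (u4 a b) = 4 :=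
  orderOf_unip _ (u4_apply a b) 1 (fun v => by simp [Function.iterate_succ_apply'])
    ⟨((0, 1), 0), by simp [Function.iterate_succ_apply', ha]⟩

theorem tor_four (ε : Prop) : Tor F 2 ε 4 := by
  obtain ⟨a, b, ha, h⟩ := exists_bq (F := F) ε
  exact Tor.of _ (nd_q4 ha b) (by simp) ((isPlus_q4 ha b).trans h) (orderOf_u4 ha b)

theorem tor_eight (ε : Prop) : Tor F 3 ε 8 := by
  obtain ⟨a, b, ha, h⟩ := exists_bq (F := F) ε
  refine Tor.of (prodOG _ _ (1, u4 a b) * sieg (q6 a b) ((1, 0), 0) (0, (0, 1), 0)) (nd_q6 ha b)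
    (by simp) ((isPlus_q6 ha b).trans h) (orderOf_unip _ (n := fun v => ((v.2.1.1, 0),
      (a * v.2.2.1 + a * a * v.2.2.2 + b * (v.2.1.2 + v.1.2), v.1.2), a * v.2.2.2, v.2.1.2 + v.1.2))
      (fun v => ?_) 2 (fun v => by simp [Function.iterate_succ_apply'])
      ⟨((0, 1), 0), by simp [Function.iterate_succ_apply', ha]⟩)
  rw [OG_mul_apply, sieg_apply (by simp [bq_apply]) (by simp [polar_bq]), prodOG_apply, u4_apply]
  ext <;> simp [polar_bq, bq_apply, CharTwo.sub_eq_add, OG_one_apply]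

theorem ator_two (ε : Prop) : ATor F 1 ε 2 := by
  obtain ⟨a, b, ha, h⟩ := exists_bq (F := F) ε
  exact ⟨_, _, _, inferInstance, bq 1 a b, 1, (1, 0), nd_bq _ ha _, by simp, h, fun δ _ => map_one δ,
    aff_dvd _ _ 0 (by simp) (by simp [OG_one_apply])⟩

theorem ator_four (ε : Prop) : ATor F 2 ε 4 := by
  obtain ⟨a, b, ha, h⟩ := exists_bq (F := F) ε
  refine ⟨_, _, _, inferInstance, q4 a b, u4 a b ^ 2, ((0, 1), 0), nd_q4 ha b, by simp,
    (isPlus_q4 ha b).trans h, fun δ _ => by rw [map_pow, Int.units_sq], aff_dvd _ _ 1 ?_ ?_⟩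
  · rw [← pow_mul, ← orderOf_dvd_iff_pow_eq_one, orderOf_u4 ha]; rfl
  · intro h
    have := congrArg (fun v => v.2.1) h
    simp [Finset.sum_range_succ, pow_two, OG_mul_apply, OG_one_apply, u4_apply, ha] at this

theorem ator_eight (ε : Prop) : ATor F 3 ε 8 := by
  obtain ⟨a, b, ha, h⟩ := exists_bq (F := F) ε
  refine ⟨_, _, _, inferInstance, q6 a b, prodOG _ _ (refl _ (1, 1), u4 a b), (0, (0, 1), 0),
    nd_q6 ha b, by simp, (isPlus_q6 ha b).trans h, fun δ hδ => ?_, aff_dvd _ _ 2 ?_ ?_⟩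
  · have : prodOG _ _ (refl _ (1, 1), u4 a b) = refl (q6 a b) ((1, 1), 0) *
        sieg (q6 a b) (0, (1, 0), 0) (0, 0, (0, 1)) * refl (q6 a b) (0, 0, (1, 0)) := OG_ext fun v => by
      rw [prodOG_apply, u4_apply, OG_mul_apply, OG_mul_apply, refl_apply, refl_apply,
        sieg_apply (by simp [bq_apply]) (by simp [polar_bq]), refl_apply]
      ext <;> simp [polar_bq, bq_apply, CharTwo.sub_eq_add] <;> ring
    rw [this, map_mul, map_mul, hδ _ (by simp [bq_apply]), hδ _ (by simp [bq_apply]),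
      Abelianization.commutator_subset_ker δ ((nd_q6 ha b).sieg_mem_commutator
        (good_of_card (Or.inr (by simp))) _ _)]
    simp
  · rw [← map_pow, Prod.pow_mk, show 2 ^ 2 = 4 from rfl]
    nth_rewrite 2 [← orderOf_u4 ha b]
    rw [pow_orderOf_eq_one, show 4 = 2 * 2 from rfl, pow_mul, pow_two (refl _ _), refl_mul_self,
      one_pow]
    exact map_one _
  · intro h
    have := congrArg (fun v => v.2.1.1) h
    simp only [← map_pow, Prod.pow_mk, prodOG_apply] at this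
    simp [Finset.sum_range_succ, pow_succ, OG_mul_apply, OG_one_apply, u4_apply] at this
    exact mul_ne_zero ha ha (by
      linear_combination this - (3 * b + 2 * a * a) * CharTwo.two_eq_zero (R := F))

theorem cop {a b c : ℕ} (ho : Odd b) (h : a = b * c + 2 ∨ a + 2 = b * c) : a.Coprime b := by
  have h1 : a.gcd b ∣ 2 := by
    rcases h with h | h
    · refine (Nat.dvd_add_right ((Nat.gcd_dvd_right a b).mul_right c)).1 ?_
      rw [← h]; exact Nat.gcd_dvd_left _ _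
    · refine (Nat.dvd_add_right (Nat.gcd_dvd_left a b)).1 ?_
      rw [h]; exact (Nat.gcd_dvd_right a b).mul_right c
  rcases (Nat.dvd_prime Nat.prime_two).1 h1 with h2 | h2
  · exact h2
  · exact absurd (even_iff_two_dvd.2 (h2 ▸ Nat.gcd_dvd_right a b)) (Nat.not_even_iff_odd.2 ho)

theorem mu_data {d : ℕ} (h : Mu (Fintype.card F) d) : ∃ n ε M, Tor F n ε M ∧ Odd M ∧
    (n = 4 ∧ ¬ ε ∧ d ∣ M ∨ n = 3 ∧ d ∣ M * 2 ∨ n = 2 ∧ d ∣ M * 4 ∨ n = 1 ∧ d ∣ M * 8) := by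
  have p1 := tor_plus (F := F) one_pos
  have p2 := tor_plus (F := F) two_pos
  have p3 := tor_plus (F := F) three_pos
  have m1 := tor_minus (F := F) one_pos
  have m2 := tor_minus (F := F) two_pos
  have m3 := tor_minus (F := F) three_pos
  have m4 := tor_minus (F := F) four_pos
  have he := even_card (F := F)
  have h2 : 2 ≤ Fintype.card F := Fintype.one_lt_card
  generalize Fintype.card F = q at *
  have op : ∀ k, 0 < k → Odd (q ^ k + 1) := fun k hk => (he.pow_of_ne_zero hk.ne').add_one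
  have om : ∀ k, 0 < k → Odd (q ^ k - 1) := fun k hk =>
    Nat.Even.sub_odd (Nat.one_le_pow _ _ (by omega)) (he.pow_of_ne_zero hk.ne') odd_one
  have o1 := op 1 one_pos
  have o2 := om 1 one_pos
  rw [pow_one] at p1 m1 o1 o2
  obtain ⟨t, rfl⟩ : ∃ t, q = t + 1 := ⟨q - 1, by omega⟩
  have e2 : (t + 1) ^ 2 - 1 = t ^ 2 + 2 * t := Nat.sub_eq_of_eq_add (by ring)
  have e3 : (t + 1) ^ 3 - 1 = t ^ 3 + 3 * t ^ 2 + 3 * t := Nat.sub_eq_of_eq_add (by ring)
  have e4 : (t + 1) ^ 4 - 1 = ((t + 1) ^ 2 + 1) * ((t + 1) ^ 2 - 1) :=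
    Nat.sub_eq_of_eq_add (by rw [e2]; ring)
  rcases h with h | h | h | h | h | h | h | h | h | h | h | h
  · exact ⟨_, _, _, m4, op _ four_pos, Or.inl ⟨rfl, id, h⟩⟩
  · exact ⟨_, _, _, m2.prod p2 (cop (c := 1) (om _ two_pos) (Or.inl (by rw [e2]; ring))),
      (op _ two_pos).mul (om _ two_pos), Or.inl ⟨rfl, by simp, e4 ▸ h⟩⟩
  · exact ⟨_, _, _, m3.prod p1 (cop (c := t ^ 2 + 3 * t + 3) o2 (Or.inl (by simp; ring))),
      (op _ three_pos).mul o2, Or.inl ⟨rfl, by simp, h⟩⟩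
  · exact ⟨_, _, _, p3.prod m1 (cop (c := t ^ 2 + t + 1) o1 (Or.inr (by rw [e3]; ring))),
      (om _ three_pos).mul o1, Or.inl ⟨rfl, by simp, h⟩⟩
  · exact ⟨_, _, _, m3, op _ three_pos, Or.inr (Or.inl ⟨rfl, h⟩)⟩
  · exact ⟨_, _, _, p3, om _ three_pos, Or.inr (Or.inl ⟨rfl, h⟩)⟩
  · exact ⟨_, _, _, m2.prod m1 (cop (c := t) o1 (Or.inl (by ring))),
      (op _ two_pos).mul o1, Or.inr (Or.inl ⟨rfl, h⟩)⟩
  · exact ⟨_, _, _, m2.prod p1 (cop (c := t + 2) o2 (Or.inl (by simp; ring))),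
      (op _ two_pos).mul o2, Or.inr (Or.inl ⟨rfl, h⟩)⟩
  · exact ⟨_, _, _, m2, op _ two_pos, Or.inr (Or.inr (Or.inl ⟨rfl, h⟩))⟩
  · exact ⟨_, _, _, p2, om _ two_pos, Or.inr (Or.inr (Or.inl ⟨rfl, h⟩))⟩
  · exact ⟨_, _, _, m1, o1, Or.inr (Or.inr (Or.inr ⟨rfl, h⟩))⟩
  · exact ⟨_, _, _, p1, o2, Or.inr (Or.inr (Or.inr ⟨rfl, h⟩))⟩

theorem mu_tor {d : ℕ} (h : Mu (Fintype.card F) d) :
    (∃ N, d ∣ N ∧ Tor F 4 False N) ∧ ∃ N, d ∣ N ∧ ATor F 4 False N := by
  obtain ⟨n, ε, M, h1, h2, h3⟩ := mu_data h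
  have c1 : M.Coprime 2 := Nat.coprime_two_right.2 h2
  rcases h3 with ⟨rfl, h3, h4⟩ | ⟨rfl, h4⟩ | ⟨rfl, h4⟩ | ⟨rfl, h4⟩
  · exact ⟨⟨_, h4, h1.congr (iff_false_intro h3)⟩, _, h4, (h1.ator h2).congr (iff_false_intro h3)⟩
  · exact ⟨⟨_, h4, (h1.prod (tor_two ¬ε) c1).congr (by simp)⟩,
      _, h4, (h1.aprod (ator_two ¬ε) h2 c1).congr (by simp)⟩
  · exact ⟨⟨_, h4, (h1.prod (tor_four ¬ε) (c1.pow_right 2)).congr (by simp)⟩,
      _, h4, (h1.aprod (ator_four ¬ε) h2 (c1.pow_right 2)).congr (by simp)⟩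
  · exact ⟨⟨_, h4, (h1.prod (tor_eight ¬ε) (c1.pow_right 3)).congr (by simp)⟩,
      _, h4, (h1.aprod (ator_eight ¬ε) h2 (c1.pow_right 3)).congr (by simp)⟩

end Cfsg.Agent.H23
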