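import Cfsg.Agent.H23.Sp8c
import Cfsg.Agent.H13.Odd2
import Cfsg.Agent.H12.SBridge

/-! The spectra of `Sp₈(q)`, `O₈⁻(q)` and `q⁸ : Ω₈⁻(q)` for even `q`. -/

set_option autoImplicit false

namespace Cfsg.Agent.H23

open Module H13 QuadraticMap

universe u

variable {F : Type u} [Field F] [Fintype F] [CharP F 2] {a b : F}
  (hab : ∀ z₁ z₂ : F, z₁ ^ 2 + a * z₁ * z₂ + b * z₂ ^ 2 = 0 → z₁ = 0 ∧ z₂ = 0)

theorem spec_UG_le {V : Type*} [AddCommGroup V] [Module F V] [FiniteDimensional F V]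
    {B : V →ₗ[F] V →ₗ[F] F} (sep : ∀ x, (∀ y, B x y = 0) → x = 0) (hV : finrank F V = 8)
    (g : H12.UG (σ := RingHom.id F) B) : Mu (Fintype.card F) (orderOf g) := by
  obtain ⟨N, h1, h2⟩ := exists_charpoly_dvd sep (a := (g.1 : End F V)) g.2 hV
  refine h1.of_dvd (orderOf_dvd_of_pow_eq_one (Subtype.ext (LinearEquiv.toLinearMap_injective ?_)))
  exact (lin_pow (ρ := (H12.UG (σ := RingHom.id F) B).subtype) g N).trans (pow_of_charpoly_dvd h2)

include hab

theorem og_le_ug : OG (QMinus 3 F a b) ≤ H12.UG (σ := RingHom.id F) (polarBilin (QMinus 3 F a b)) :=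
  fun g hg => OG_polar ⟨g, hg⟩

theorem spec_OG_ge {d : ℕ} (h : Mu (Fintype.card F) d) :
    d ∈ Set.range (orderOf : OG (QMinus 3 F a b) → ℕ) := by
  obtain ⟨N, h1, V, _, _, _, Q, s, h2, h3, h4, rfl⟩ := (mu_tor h).1
  obtain ⟨e, he⟩ := h2.equiv_QMinus h4.1 (m := 3) h3 hab
  haveI : Finite (OG (QMinus 3 F a b)) := Finite.of_injective _ Subtype.val_injective
  exact mem_range_orderOf_of_dvd (x := (SemiSim.ofIsometry e he).conj s)
    (h1.trans (MulEquiv.orderOf_eq _ _).symm.dvd)

theorem spec_OG : Set.range (orderOf : OG (QMinus 3 F a b) → ℕ) = {d | Mu (Fintype.card F) d} := by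
  refine Set.Subset.antisymm ?_ fun d h => spec_OG_ge hab h
  rintro _ ⟨g, rfl⟩
  rw [← orderOf_injective _ (Subgroup.inclusion_injective (og_le_ug hab))]
  exact spec_UG_le (B := polarBilin (QMinus 3 F a b)) (nd_QMinus hab) (by simp) _

theorem spec_PSp : Set.range (orderOf : PSp 4 F → ℕ) = {d | Mu (Fintype.card F) d} := by
  have h1 : Subgroup.center (Matrix.symplecticGroup (Fin 4) F) = ⊥ := by
    rw [← Subgroup.card_eq_one, H12.card_center_sp, Nat.card_eq_fintype_card]
    exact Nat.coprime_two_left.2 (Nat.Even.sub_odd Fintype.card_pos even_card odd_one)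
  obtain ⟨e⟩ := (nd_QMinus (m := 3) hab).sd.nonempty_UG_equiv_sp (m := 4) (by simp)
  rw [range_orderOf_equiv (((QuotientGroup.quotientMulEquivOfEq h1).trans
    QuotientGroup.quotientBot).trans e.symm)]
  refine Set.Subset.antisymm ?_ fun d h => ?_
  · rintro _ ⟨g, rfl⟩
    exact spec_UG_le (B := polarBilin (QMinus 3 F a b)) (nd_QMinus hab) (by simp) _
  · obtain ⟨g, rfl⟩ := spec_OG_ge hab h
    exact ⟨_, orderOf_injective _ (Subgroup.inclusion_injective (og_le_ug hab)) g⟩

/-- the affine group of `Ω₈⁻` -/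
abbrev AffO : Type u :=
  Aff ((OG (QMinus 3 F a b)).subtype.comp (dickson (nd_QMinus hab) (good_QMinus hab)).ker.subtype)

instance : Finite (dickson (nd_QMinus (m := 3) hab) (good_QMinus hab)).ker :=
  Finite.of_injective (fun x => x.1.1) (Subtype.val_injective.comp Subtype.val_injective)

theorem spec_AffO : Set.range (orderOf : AffO hab → ℕ) = {d | Mu (Fintype.card F) d} := by
  refine Set.Subset.antisymm ?_ fun d h => ?_
  · rintro _ ⟨x, rfl⟩
    obtain ⟨N, h1, h2⟩ := exists_charpoly_dvd (nd_QMinus (m := 3) hab) (a := x.lin)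
      (B := polarBilin (QMinus 3 F a b)) (OG_polar x.right.1) (by simp)
    refine h1.of_dvd (orderOf_dvd_of_pow_eq_one ?_)
    have h3 : x.right ^ N = 1 := Subtype.ext (Subtype.ext (LinearEquiv.toLinearMap_injective
      ((lin_pow x.right N).trans (pow_of_charpoly_dvd h2))))
    have h4 := (dickson_eq_one_iff _ _ _).1 x.right.2
    have h5 := rk_add_finrank_fixS x.right.1
    simp only [finrank_fintype_fun_eq_card, Fintype.card_sum, Fintype.card_fin] at h5
    by_cases h6 : finrank F (fixS x.right.1) = 0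
    · refine x.pow_of_fpf h3 fun v hv => ?_
      rw [Submodule.finrank_eq_zero] at h6
      exact (Submodule.eq_bot_iff _).1 h6 v (mem_fixS.2 hv)
    · refine (x.pow_eq_one_iff N).2 ⟨h3, ?_⟩
      rw [geom_of_charpoly_dvd h2, LinearMap.zero_apply]
      change 2 ≤ finrank F (fixS x.right.1)
      obtain ⟨r, hr⟩ := h4
      omega
  · obtain ⟨N, h1, V, _, _, _, Q, s, w, h2, h3, h4, h5, h6⟩ := (mu_tor h).2
    obtain ⟨e, he⟩ := h2.equiv_QMinus h4.1 (m := 3) h3 hab
    let c := (SemiSim.ofIsometry e he).conj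
    have h7 := h5 ((dickson (nd_QMinus hab) (good_QMinus hab)).comp c.toMonoidHom) fun v hv => by
      change dickson (nd_QMinus hab) (good_QMinus hab) (c _) = _
      rw [SemiSim.conj_refl]
      exact dickson_refl _ _ (by rw [← he] at hv; exact hv)
    refine mem_range_orderOf_of (x := (⟨Multiplicative.ofAdd (e w), ⟨c s, h7⟩⟩ : AffO hab)) h1
      fun k hk => ?_
    obtain ⟨h8, h9⟩ := (Aff.pow_eq_one_iff _ _).1 hk
    refine h6 k (c.injective (by rw [map_pow, map_one]; exact congrArg Subtype.val h8))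
      (e.injective ?_)
    rw [map_zero, ← h9, map_sum, LinearMap.sum_apply]
    refine Finset.sum_congr rfl fun i _ => ?_
    rw [Aff.lin, ← lin_pow]
    change _ = ((c s) ^ i).1 (e w)
    rw [← map_pow]
    exact ((SemiSim.ofIsometry e he).conj_apply_e _ _).symm

end Cfsg.Agent.H23
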