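import Cfsg.Agent.H2.TW

/-! Amalgams with alternating local actions. -/

set_option autoImplicit false
set_option linter.style.haveILetI false
set_option linter.unusedSectionVars false

namespace Cfsg.Agent.H23U

open Subgroup H24 H2.TW Equiv Equiv.Perm
open H10 (SubnormalIn FitOf LayOf FstarOf CompOf)
open scoped Nat

variable {n d : ℕ}

theorem alt_card (hn : 5 ≤ n) : 2 * Nat.card (alternatingGroup (Fin n)) = n ! := by
  haveI : Nontrivial (Fin n) := Fin.nontrivial_iff_two_le.2 (by omega)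
  rw [two_mul_nat_card_alternatingGroup, Nat.card_perm, Nat.card_fin]

theorem alt_ne (hn : 5 ≤ n) : alternatingGroup (Fin n) ≠ ⊥ := fun e => by
  have := alt_card hn
  have k := Nat.self_le_factorial n
  rw [e, card_bot] at this
  omega

theorem alt_pf (hn : 5 ≤ n) : ⁅alternatingGroup (Fin n), alternatingGroup (Fin n)⁆ ≠ ⊥ := by
  rw [commutator_alternatingGroup_eq_self (by simpa)]; exact alt_ne hn

theorem alt_le (hn : 5 ≤ n) {X : Subgroup (Perm (Fin n))} (h0 : X ≠ ⊥) (h : alternatingGroup (Fin n) ≤ 𝐍[X]) :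
    alternatingGroup (Fin n) ≤ X := by
  haveI := normal_subgroupOf_of_le_normalizer' h
  rcases alternatingGroup.normal_subgroup_eq_bot_or_eq_top (by simpa)
    (N := X.subgroupOf (alternatingGroup (Fin n))) with e | e
  · have c : X ≤ 𝐂[alternatingGroup (Fin n)] := le_centralizer_iff_commutator.2 (eq_bot_iff.2
      ((le_inf (commutator_le_left_of_le_normalizer h) (commutator_le_right _ _)).trans
        (subgroupOf_eq_bot.1 e).le_bot))
    exact absurd (le_centralizer_iff_commutator.1 (alternatingGroup_le_of_normal (by simpa)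
      ((nontrivial_iff_ne_bot _).2 fun k => h0 (eq_bot_iff.2 (k ▸ c))))) (alt_pf hn)
  · exact subgroupOf_eq_top.1 e

variable {G : Type*} [Group G] [Finite G] {H K L A B X Y T : Subgroup G} {ρ : H →* Perm (Fin n)}

/-- image -/
def im (ρ : H →* Perm (Fin n)) (X : Subgroup G) : Subgroup (Perm (Fin n)) := (X.subgroupOf H).map ρ

/-- `H / A` is alternating or symmetric -/
structure AQ (A : Subgroup G) (ρ : H →* Perm (Fin n)) : Prop where
  hn : 5 ≤ n
  ker : ρ.ker = A.subgroupOf H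
  alt : alternatingGroup (Fin n) ≤ im ρ H

theorem im_card (hk : ρ.ker = A.subgroupOf H) (h1 : X ≤ H) : Nat.card (im ρ X) = A.relIndex X := by
  rw [im, ← relIndex_ker, hk, relIndex_subgroupOf h1]

theorem aq_mk (hn : 5 ≤ n) (hk : ρ.ker = A.subgroupOf H) (hi : n ! ≤ 2 * A.relIndex H) : AQ A ρ := by
  refine ⟨hn, hk, alternatingGroup_le_of_index_le_two ?_⟩
  have := (im ρ H).index_mul_card
  rw [im_card hk le_rfl, Nat.card_perm, Nat.card_fin] at this
  exact Nat.le_of_mul_le_mul_right (this.le.trans hi) (Nat.pos_of_ne_zero (relIndex_ne_zero _))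

theorem aq_of {β : Type*} (ρ : H →* Perm β) (e : β ≃ Fin n) (hn : 5 ≤ n) (hk : ρ.ker = A.subgroupOf H)
    (hi : n ! ≤ 2 * A.relIndex H) : AQ A (e.permCongrHom.toMonoidHom.comp ρ) :=
  aq_mk hn (by rw [MonoidHom.ker_comp_of_injective _ _ e.permCongrHom.injective, hk]) hi

namespace AQ
variable (h : AQ A ρ)
include h

theorem bot (h1 : X ≤ H) : im ρ X = ⊥ ↔ X ≤ A := by
  rw [im, Subgroup.map_eq_bot_iff, h.ker, H10.subgroupOf_le_subgroupOf_iff h1]

theorem big (hT : alternatingGroup (Fin n) ≤ im ρ T) (h1 : X ≤ H) (h2 : T ≤ 𝐍[X]) (h3 : ¬ X ≤ A) :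
    alternatingGroup (Fin n) ≤ im ρ X :=
  alt_le h.hn (mt (h.bot h1).1 h3) (hT.trans (map_le_normalizer_map _ (comap_le_normalizer_comap _ h2)))

theorem idx (h1 : X ≤ H) (h2 : alternatingGroup (Fin n) ≤ im ρ X) : n ! ≤ 2 * A.relIndex X := by
  rw [← alt_card h.hn, ← im_card h.ker h1]
  exact Nat.mul_le_mul_left _ (card_le_of_le h2)

theorem idx' (h1 : X ≤ H) (h2 : H ≤ 𝐍[X]) (h3 : ¬ X ≤ A) : n ! ≤ 2 * A.relIndex X :=
  h.idx h1 (h.big h.alt h1 h2 h3)

theorem le (h1 : X ≤ H) : A.relIndex X ≤ n ! := by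
  rw [← im_card h.ker h1]
  exact (card_le_card_group _).trans (by rw [Nat.card_perm, Nat.card_fin])

theorem cm (h1 : X ≤ H) (h2 : H ≤ 𝐍[X]) (h3 : Y ≤ H) (h4 : H ≤ 𝐍[Y]) (h5 : X ≤ 𝐂[Y]) : X ≤ A ∨ Y ≤ A := by
  by_contra! k
  refine alt_pf h.hn (le_centralizer_iff_commutator.1 ((h.big h.alt h1 h2 k.1).trans
    (le_trans ?_ (centralizer_anti (h.big h.alt h3 h4 k.2)))))
  exact map_le_centralizer_map _ fun x hx => mem_centralizer_iff'.2 fun y hy =>
    Subtype.ext (mem_centralizer_iff'.1 (h5 hx) y hy)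

theorem sol (h1 : X ≤ H) (h2 : H ≤ 𝐍[X]) (h3 : Group.IsSolvable X) : X ≤ A := by_contra fun k => by
  haveI := H10.isSolvable_of_le (h.big h.alt h1 h2 k)
    (H10.isSolvable_map _ ρ ((H10.isSolvable_subgroupOf_iff h1).2 h3))
  haveI := (nontrivial_iff_ne_bot _).2 (alt_ne h.hn)
  exact (Group.IsSolvable.commutator_lt_top_of_nontrivial (alternatingGroup (Fin n))).ne
    (commutator_alternatingGroup_eq_top (by simpa using h.hn))

end AQ

/-- the local structure -/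
structure Loc (d : ℕ) (H L A : Subgroup G) : Prop where
  al : A ≤ L
  lh : L ≤ H
  nm : H ≤ 𝐍[A]
  ix : L.relIndex H = d
  ex : ∃ ρ : H →* Perm (Fin d), AQ A ρ ∧ ∃ δ, ∀ h : H, ρ h δ = δ ↔ h.1 ∈ L
  ex' : ∃ ψ : L →* Perm (Fin (d - 1)), AQ A ψ

theorem loc (hL : L ≤ H) (hd : L.relIndex H = d) (h6 : 6 ≤ d) (hi : d ! ≤ 2 * (cr L H).relIndex H) :
    Loc d H L (cr L H) := by
  have e : H ⧸ L.subgroupOf H ≃ Fin d := Finite.equivFinOfCardEq hd
  have a := aq_of (MulAction.toPermHom H (H ⧸ L.subgroupOf H)) e (by omega)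
    (by rw [cr, subgroupOf_map_subtype', normalCore_eq_ker]) hi
  set ρ := e.permCongrHom.toMonoidHom.comp (MulAction.toPermHom H (H ⧸ L.subgroupOf H))
  have b : ∀ h : H, ρ h (e (1 : H)) = e (1 : H) ↔ h.1 ∈ L := fun h => by
    show e (h • e.symm (e (1 : H))) = _ ↔ _
    rw [e.symm_apply_apply, e.injective.eq_iff, MulAction.Quotient.smul_coe, eq_comm, QuotientGroup.eq]
    simp [mem_subgroupOf]
  refine ⟨cr_le, hL, cr_nm, hd, ⟨ρ, a, _, b⟩, ?_⟩
  have c : ∀ t : L, ∀ x, ρ (inclusion hL t) x ≠ e (1 : H) ↔ x ≠ e (1 : H) := fun t x => by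
    conv_lhs => rw [← (b (inclusion hL t)).2 t.2]
    exact (ρ _).injective.ne_iff
  refine ⟨_, aq_of (MonoidHom.mk' (fun t : L => (ρ (inclusion hL t)).subtypePerm
    (p := fun x => x ≠ e (1 : H)) (c t)) fun s t => by
    refine Equiv.ext fun x => Subtype.ext ?_
    show ρ (inclusion hL (s * t)) x = ρ (inclusion hL s) (ρ (inclusion hL t) x)
    rw [map_mul, map_mul, mul_apply]) (Finite.equivFinOfCardEq (by simp)) (by omega) (Subgroup.ext fun t => ?_) ?_⟩
  · have : t ∈ (cr L H).subgroupOf L ↔ ρ (inclusion hL t) = 1 := by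
      rw [← MonoidHom.mem_ker, a.ker]; rfl
    rw [this, MonoidHom.mem_ker]
    refine ⟨fun k => Equiv.ext fun x => ?_, fun k => Equiv.ext fun x => Subtype.ext (by simp [k])⟩
    by_cases q : x = e (1 : H)
    · rw [q]; exact (b _).2 t.2
    · exact congrArg Subtype.val (Equiv.ext_iff.1 k ⟨x, q⟩)
  · rw [← relIndex_mul_relIndex _ L _ cr_le hL, hd, ← Nat.mul_factorial_pred (by omega : d ≠ 0), ← mul_assoc,
      mul_comm d] at hi
    exact Nat.le_of_mul_le_mul_right hi (by omega)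

theorem Loc.tr (h : Loc d H L A) (h1 : X ≤ H) (h2 : H ≤ 𝐍[X]) (h3 : ¬ X ≤ A) : H ≤ X ⊔ L := fun y hy => by
  obtain ⟨ρ, a, δ, e⟩ := h.ex
  haveI := alternatingGroup.isPretransitive_of_three_le_card (Fin d) (by have := a.hn; simp; omega)
  obtain ⟨⟨s, s1⟩, s2⟩ := MulAction.exists_smul_eq (alternatingGroup (Fin d)) δ (ρ ⟨y, hy⟩ δ)
  obtain ⟨x, hx, rfl⟩ := a.big a.alt h1 h2 h3 s1
  rw [← mul_inv_cancel_left x.1 y]
  refine mul_mem_sup hx ((e (x⁻¹ * ⟨y, hy⟩)).1 ?_)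
  rw [map_mul, map_inv, mul_apply, ← s2]
  exact symm_apply_apply _ _

theorem pair (h : Am H K) (l : Loc d H (H ⊓ K) A) : d ! ≤ 2 * (cr (H ⊓ K) K).relIndex K := by
  by_contra! k
  obtain ⟨ρ, a, -⟩ := l.ex
  obtain ⟨T, hT⟩ := exists_minimal_of_wellFoundedLT (fun T => T ≤ H ∧ alternatingGroup (Fin d) ≤ im ρ T)
    ⟨H, le_rfl, a.alt⟩
  have key : ∀ x, cj T x ≤ K → cj T x ≤ cr (H ⊓ K) K := fun x hx => by
    have n : T ≤ 𝐍[T ⊓ cj (cr (H ⊓ K) K) x⁻¹] := le_normalizer_inf le_normalizer (by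
      rw [← cj_normalizer, ← cj_le_iff]; exact hx.trans cr_nm)
    refine cj_le_iff.2 ((hT.2 ⟨inf_le_left.trans hT.1.1, a.big hT.1.2 (inf_le_left.trans hT.1.1) n fun q => ?_⟩
      inf_le_left).trans inf_le_right)
    have i1 := relIndex_le_of_le_left q (relIndex_ne_zero (H := T) _)
    rw [inf_relIndex_left, ← relIndex_cj (cj _ _) _ x, cj_inv_cj] at i1
    have i2 := relIndex_le_of_le_right hx (relIndex_ne_zero (cr (H ⊓ K) K))
    have := a.idx hT.1.1 hT.1.2
    omega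
  let Z : Subgroup G :=
    { carrier := {z | ∀ x, cj T x ≤ K → cj T (z * x) ≤ K}
      one_mem' := fun x hx => by rwa [one_mul]
      mul_mem' := fun {y z} hy hz x hx => by rw [mul_assoc]; exact hy _ (hz x hx)
      inv_mem' := fun {z} hz x hx => by
        have : ∀ m : ℕ, cj T (z ^ m * x) ≤ K := fun m => by
          induction m with
          | zero => rwa [pow_zero, one_mul]
          | succ m ih => rw [pow_succ', mul_assoc]; exact hz _ ih
        rw [inv_eq_of_mul_eq_one_right (show z * z ^ (orderOf z - 1) = 1 by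
          rw [← pow_succ', Nat.sub_add_cancel (orderOf_pos z), pow_orderOf_eq_one])]
        exact this _ }
  obtain ⟨g, hg⟩ := h.conj
  have z1 : K ≤ Z := fun y hy x hx => by rw [← cj_cj]; exact cj_le_of_mem hx hy
  have z2 : g ∈ Z := fun x hx => by
    rw [← cj_cj, ← hg]; exact cj_mono ((key x hx).trans (cr_le.trans inf_le_left)) g
  have z3 : H ≤ Z := by rw [cj_eq_iff.1 hg]; exact cj_le_of_mem z1 (inv_mem z2)
  have t1 : cj T g ≤ K := hg ▸ cj_mono hT.1.1 g
  have w := h.bot (X := cr K Z) (le_inf (by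
    rw [cj_eq_iff.1 hg, le_cj_iff, inv_inv, cj_eq_of_mem_normalizer (cr_nm z2)]; exact cr_le) cr_le)
    (z3.trans cr_nm) (z1.trans cr_nm)
  have t2 : cj T g ≤ cr K Z := fun t ht => mem_cr.2 ⟨z1 (t1 ht), fun z hz =>
    hz g t1 (cj_cj T g z ▸ conj_mem_cj ht z)⟩
  rw [w, le_bot_iff, cj_eq_bot_iff] at t2
  exact alt_ne a.hn (eq_bot_iff.2 (hT.1.2.trans ((a.bot hT.1.1).2 (t2 ▸ bot_le)).le))

end Cfsg.Agent.H23U
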