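import Cfsg.Agent.H23.Sub1

/-! Amalgams with alternating local actions: the structure of the vertex stabilizer. -/

set_option autoImplicit false
set_option linter.style.haveILetI false
set_option linter.unusedSectionVars false

namespace Cfsg.Agent.H23U

open Subgroup H24 H2.TW Equiv Equiv.Perm
open H10 (SubnormalIn FitOf LayOf FstarOf CompOf)
open scoped Nat

variable {n d : ℕ} {G : Type*} [Group G] [Finite G] {H K L A B X Y T : Subgroup G}

theorem layne (h : X ≠ ⊥) (k : FitOf X = ⊥) : LayOf X ≠ ⊥ := fun e =>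
  H10.FstarOf_ne_bot h (by rw [H10.FstarOf_eq, e, k, bot_sup_eq])

theorem fac (h : 5 ≤ d - 1) {x : ℕ} (k : d ! ≤ 2 * x) : ¬ x ≤ (d - 1)! := fun e => by
  rw [← Nat.mul_factorial_pred (by omega : d ≠ 0)] at k
  have := Nat.le_of_mul_le_mul_right (k.trans (Nat.mul_le_mul_left 2 e)) (Nat.factorial_pos _)
  omega

theorem Loc.sn (h : Loc d H L A) : SubnormalIn A L := .of_normal h.al (h.lh.trans h.nm)

theorem Loc.fit (h : Loc d H L A) : H ≤ 𝐍[FitOf L] := by
  obtain ⟨ψ, a⟩ := h.ex'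
  rw [← inf_eq_right.2 (a.sol H10.FitOf_le (H10.le_normalizer_FitOf le_normalizer) H10.FitOf_solvable),
    ← h.sn.FitOf_eq]
  exact H10.le_normalizer_FitOf h.nm

theorem Loc.cn (h : Loc d H L A) : H ≤ 𝐍[H ⊓ 𝐂[A]] :=
  le_normalizer_inf le_normalizer (le_normalizer_centralizer h.nm)

theorem Loc.cb (h : Loc d H L A) (hF : FitOf L = ⊥) (h1 : X ≤ 𝐂[A]) (h2 : X ≤ A) : X = ⊥ :=
  eq_bot_iff.2 ((le_inf h2 h1).trans (h.sn.center_le_FitOf.trans hF.le))

variable (lH : Loc d H L A) (lK : Loc d K L B)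
include lH lK

theorem cent (h : ¬ LayOf A ≤ B) : ¬ K ⊓ 𝐂[B] ≤ B := fun k => h <| H10.LayOf_le_iff.2 fun X hX =>
  ((hX.trans lH.sn).le_or_of_subnormal lK.sn).elim id fun e =>
    (le_inf (hX.le.trans (lH.al.trans lK.lh)) (le_centralizer_iff_commutator.2 e)).trans k

theorem nrm (h : ¬ LayOf A ≤ B) : K ≤ 𝐍[A ⊓ B] :=
  (lK.tr inf_le_left lK.cn (cent lH lK h)).trans (sup_le (le_normalizer_of_le_centralizer
    (inf_le_right.trans (centralizer_anti inf_le_right)))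
    (le_normalizer_inf (lH.lh.trans lH.nm) (lK.lh.trans lK.nm)))

theorem cl (h : ¬ A ≤ B) : (H ⊓ 𝐂[A]) ⊓ L ≤ B :=
  let ⟨_, a⟩ := lK.ex'
  (a.cm inf_le_right (le_normalizer_inf (lH.lh.trans lH.cn) le_normalizer) lH.al (lH.lh.trans lH.nm)
    (inf_le_left.trans inf_le_right)).resolve_right h

theorem lay (h : LayOf A ≤ B) : LayOf A ≤ LayOf B := H10.LayOf_le_iff.2 fun _ hX =>
  ((hX.trans lH.sn).of_le (hX.le_LayOf.trans h) lK.al).le_LayOf

theorem mix (hF : FitOf L = ⊥) (hc : Nat.card (LayOf H) = Nat.card (LayOf K)) (h : ¬ LayOf A ≤ B) :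
    ¬ LayOf B ≤ A := fun k => by
  obtain ⟨ρ, a, -⟩ := lH.ex
  obtain ⟨ρ', b, -⟩ := lK.ex
  obtain ⟨ψ, c⟩ := lK.ex'
  have h1 : LayOf H ≤ A := H10.LayOf_le_iff.2 fun Y hY =>
    (hY.le_or_of_subnormal (.of_normal (lH.al.trans lH.lh) lH.nm)).elim id fun e => by_contra fun q => by
      have i := a.idx' inf_le_left lH.cn fun w =>
        q ((le_inf hY.le (le_centralizer_iff_commutator.2 e)).trans w)
      have s : SubnormalIn ((H ⊓ 𝐂[A]) ⊓ L) L :=
        .of_normal inf_le_right (le_normalizer_inf (lH.lh.trans lH.cn) le_normalizer)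
      have l := cl lH lK (mt H10.LayOf_le.trans h)
      refine layne (fun w => ?_) (eq_bot_iff.2 (s.FitOf_le.trans hF.le)) (lH.cb hF
        (H10.LayOf_le.trans (inf_le_left.trans inf_le_right)) (le_trans (H10.SubnormalIn.LayOf_le (.of_normal l
          (lK.al.trans (le_normalizer_inf (lH.lh.trans lH.cn) le_normalizer)))) k))
      have j := relIndex_le_of_le_left (w.le.trans bot_le : _ ≤ A) (relIndex_ne_zero (H := H ⊓ 𝐂[A]) _)
      have j2 := relIndex_le_of_le_right (inf_le_left : H ⊓ 𝐂[A] ≤ H) (relIndex_ne_zero L)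
      rw [inf_relIndex_left] at j
      rw [lH.ix] at j2
      have j3 := c.hn
      have j4 := Nat.mul_le_mul_left (d - 1) (Nat.self_le_factorial (d - 1 - 1))
      rw [Nat.mul_factorial_pred (by omega)] at j4
      have j5 : (d - 1) * 2 ≤ (d - 1) * (d - 1 - 1) := Nat.mul_le_mul_left _ (by omega)
      exact fac j3 i (by omega)
  have n1 : L ≤ 𝐍[B ⊓ LayOf H] := le_normalizer_inf (lK.lh.trans lK.nm) (H10.le_normalizer_LayOf
    (lH.lh.trans le_normalizer))
  have h2 : B ⊓ LayOf H ≤ LayOf B := by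
    have := H10.FstarOf_eq_self_of_subnormal (H := H) (K := B ⊓ LayOf H) (.trans (.of_normal inf_le_right
      (h1.trans (lH.al.trans n1))) (.of_normal H10.LayOf_le_FstarOf
        (H10.FstarOf_le.trans (H10.le_normalizer_LayOf le_normalizer))))
    rw [← this, H10.FstarOf_eq, eq_bot_iff.2 ((H10.SubnormalIn.FitOf_le
      (.of_normal (inf_le_left.trans lK.al) n1)).trans hF.le), sup_bot_eq]
    exact H10.SubnormalIn.LayOf_le (.of_normal inf_le_left (lK.al.trans n1))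
  have h3 : ¬ LayOf K ≤ B := fun w => layne (fun e => cent lH lK h (e.le.trans bot_le))
    (lK.cb hF (H10.FitOf_le.trans inf_le_right) (b.sol (H10.FitOf_le.trans inf_le_left)
      (H10.le_normalizer_FitOf lK.cn) H10.FitOf_solvable))
    (lK.cb hF (H10.LayOf_le.trans inf_le_right) ((H10.SubnormalIn.LayOf_le (.of_normal inf_le_left lK.cn)).trans w))
  have i1 := b.idx' H10.LayOf_le (H10.le_normalizer_LayOf le_normalizer) h3
  have i2 := card_inf_mul_relIndex B (LayOf K)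
  have i3 := card_inf_mul_relIndex B (LayOf H)
  have i4 := card_le_of_le (h2.trans (le_inf H10.LayOf_le (H10.SubnormalIn.LayOf_le
    (.of_normal (lK.al.trans lK.lh) lK.nm))))
  have i5 := c.le (h1.trans lH.al)
  refine fac c.hn i1 (Nat.le_of_mul_le_mul_left ?_ (Nat.card_pos (α := (B ⊓ LayOf K : Subgroup G))))
  rw [i2, ← hc, ← i3]
  exact Nat.mul_le_mul i4 i5

theorem both (hb : ∀ X ≤ L, H ≤ 𝐍[X] → K ≤ 𝐍[X] → X = ⊥) (hc : Nat.card (LayOf H) = Nat.card (LayOf K))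
    (h0 : A ≠ ⊥) : FitOf L = ⊥ ∧ ¬ A ≤ B ∧ ¬ B ≤ A ∧ A ⊓ B = ⊥ := by
  have hF := hb _ H10.FitOf_le lH.fit lK.fit
  have k : ¬ LayOf A ≤ B ∧ ¬ LayOf B ≤ A := by
    by_cases h : LayOf A ≤ B
    · by_cases h' : LayOf B ≤ A
      · exact absurd (hb _ (H10.LayOf_le.trans lH.al) (H10.le_normalizer_LayOf lH.nm)
          ((lay lH lK h).antisymm (lay lK lH h') ▸ H10.le_normalizer_LayOf lK.nm))
          (layne h0 (eq_bot_iff.2 (lH.sn.FitOf_le.trans hF.le)))
      · exact absurd h (mix lK lH hF hc.symm h')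
    · exact ⟨h, mix lH lK hF hc h⟩
  exact ⟨hF, mt H10.LayOf_le.trans k.1, mt H10.LayOf_le.trans k.2,
    hb _ (inf_le_left.trans lH.al) (inf_comm B A ▸ nrm lK lH k.2) (nrm lH lK k.1)⟩

theorem emb (hF : FitOf L = ⊥) (h1 : ¬ A ≤ B) (h2 : ¬ B ≤ A) (h3 : A ⊓ B = ⊥) :
    ∃ θ : H →* Perm (Fin d) × Perm (Fin (d - 1)), Function.Injective θ ∧
      (alternatingGroup _).prod (alternatingGroup _) ≤ θ.range ∧
      Nat.card ((MonoidHom.fst _ _).comp θ).range = A.relIndex H ∧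
      Nat.card ((MonoidHom.snd _ _).comp θ).range ≤ B.relIndex L := by
  obtain ⟨ρ, a, -⟩ := lH.ex
  obtain ⟨ψ, c⟩ := lK.ex'
  have b1 : B ≤ H ⊓ 𝐂[A] := le_inf (lK.al.trans lH.lh) (le_centralizer_iff_commutator'.2 (eq_bot_iff.2
    ((le_inf (commutator_le_left_of_le_normalizer (lK.al.trans (lH.lh.trans lH.nm)))
      (commutator_le_right_of_le_normalizer (lH.al.trans (lK.lh.trans lK.nm)))).trans h3.le)))
  have b2 : ¬ H ⊓ 𝐂[A] ≤ A := mt b1.trans h2
  haveI := normal_subgroupOf_of_le_normalizer' lH.cn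
  let π := (QuotientGroup.mk' ((H ⊓ 𝐂[A]).subgroupOf H)).comp (inclusion lH.lh)
  have p1 : Function.Surjective π := fun q => by
    obtain ⟨⟨y, hy⟩, rfl⟩ := QuotientGroup.mk'_surjective _ q
    obtain ⟨x, hx, l, hl, rfl⟩ := (mem_sup_of_le_normalizer_left (lH.lh.trans lH.cn)).1
      (lH.tr inf_le_left lH.cn b2 hy)
    refine ⟨⟨l, hl⟩, QuotientGroup.eq.2 ?_⟩
    show l⁻¹ * (x * l) ∈ H ⊓ 𝐂[A]
    rw [← mul_assoc]
    exact conj_mem_of_mem_normalizer' (lH.cn (lH.lh hl)) hx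
  have p2 : π.ker = ψ.ker := by
    rw [c.ker]
    exact Subgroup.ext fun l => ⟨fun k => cl lH lK h1
      ⟨(QuotientGroup.eq_one_iff (N := (H ⊓ 𝐂[A]).subgroupOf H) (inclusion lH.lh l)).1 k, l.2⟩,
      fun k => (QuotientGroup.eq_one_iff (N := (H ⊓ 𝐂[A]).subgroupOf H) (inclusion lH.lh l)).2 (b1 k)⟩
  let χ := (π.liftOfSurjective p1 ⟨ψ, p2.le⟩).comp (QuotientGroup.mk' _)
  have x1 : ∀ l : L, χ (inclusion lH.lh l) = ψ l := fun l =>
    π.liftOfRightInverse_comp_apply _ (Function.rightInverse_surjInv p1) ⟨ψ, p2.le⟩ l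
  have x2 : ∀ y : H, ∃ l : L, χ y = ψ l ∧ π l = QuotientGroup.mk' _ y := fun y => by
    obtain ⟨l, e⟩ := p1 (QuotientGroup.mk' _ y)
    exact ⟨l, by rw [← x1]; exact congrArg (π.liftOfSurjective p1 ⟨ψ, p2.le⟩) e.symm, e⟩
  refine ⟨ρ.prod χ, (injective_iff_map_eq_one _).2 fun y hy => ?_, ?_, ?_, ?_⟩
  · obtain ⟨l, e, e'⟩ := x2 y
    have y1 : y ∈ ρ.ker := congrArg Prod.fst hy
    have y2 : l ∈ ψ.ker := e.symm.trans (congrArg Prod.snd hy)
    rw [← p2, MonoidHom.mem_ker, e'] at y2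
    rw [a.ker] at y1
    exact Subtype.ext ((eq_bot_iff_forall _).1 (lH.cb hF inf_le_right inf_le_left) _
      ⟨y1, ((QuotientGroup.eq_one_iff _).1 y2).2⟩)
  · rintro ⟨s, t⟩ ⟨hs, ht⟩
    obtain ⟨x, hx, rfl⟩ := a.big a.alt inf_le_left lH.cn b2 hs
    obtain ⟨y, hy, rfl⟩ := c.big c.alt lH.al (lH.lh.trans lH.nm) h1 ht
    refine ⟨x * inclusion lH.lh y, Prod.ext ?_ ?_⟩
    · show ρ _ = ρ x
      rw [map_mul, MonoidHom.mem_ker.1 (a.ker.ge (show inclusion lH.lh y ∈ A.subgroupOf H from hy)), mul_one]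
    · show χ _ = ψ y
      rw [map_mul, x1, show χ x = 1 from
        (congrArg (π.liftOfSurjective p1 ⟨ψ, p2.le⟩) ((QuotientGroup.eq_one_iff _).2 hx)).trans (map_one _), one_mul]
  · rw [← im_card a.ker le_rfl, im, subgroupOf_self, ← MonoidHom.range_eq_map]; rfl
  · rw [← im_card c.ker le_rfl]
    refine card_le_of_le ?_
    rintro _ ⟨y, rfl⟩
    obtain ⟨l, e, -⟩ := x2 y
    exact ⟨l, l.2, e.symm⟩

omit lH lK in
theorem small (h : Am H K) (lH : Loc d H L A) (lK : Loc d K L B) (h3 : A ⊓ B = ⊥) :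
    B.relIndex L * d ≤ A.relIndex H := by
  obtain ⟨g, hg⟩ := h.conj
  obtain ⟨ρ, b, -⟩ := lK.ex
  obtain ⟨ψ, c⟩ := lK.ex'
  have h1 : cj A g ≤ B := by_contra fun k => by
    have i := b.idx' (hg ▸ cj_mono (lH.al.trans lH.lh) g) (by
      rw [← cj_normalizer, ← hg]; exact cj_mono lH.nm g) k
    have j := c.le lH.al
    rw [← inf_relIndex_left, h3, relIndex_bot_left, ← card_cj A g] at j
    exact fac c.hn i ((Nat.le_of_dvd Nat.card_pos (relIndex_dvd_card' _ _)).trans j)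
  have := relIndex_le_of_le_left h1 (relIndex_ne_zero (H := K) _)
  rwa [← relIndex_mul_relIndex B L K lK.al lK.lh, lK.ix, ← hg, relIndex_cj] at this

omit lH lK in
theorem struct (h : Am H K) (hd : K.relIndex H = d) (h6 : 6 ≤ d) (hi : d ! ≤ 2 * (cr K H).relIndex H)
    (h0 : cr K H ≠ ⊥) : ∃ θ : H →* Perm (Fin d) × Perm (Fin (d - 1)), Function.Injective θ ∧
      (alternatingGroup _).prod (alternatingGroup _) ≤ θ.range ∧
      Nat.card ((MonoidHom.fst _ _).comp θ).range = (cr K H).relIndex H ∧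
      Nat.card ((MonoidHom.snd _ _).comp θ).range * d ≤ (cr K H).relIndex H := by
  have e : cr K H = cr (H ⊓ K) H := le_antisymm (le_cr (le_inf cr_le' cr_le) cr_le' cr_nm)
    (le_cr (cr_le.trans inf_le_right) cr_le' cr_nm)
  rw [e] at hi h0 ⊢
  have lH := loc inf_le_left ((inf_relIndex_left H K).trans hd) h6 hi
  have lK := loc inf_le_right ((inf_relIndex_right H K).trans (h.relIndex.trans hd)) h6 (pair h lH)
  obtain ⟨a, b, c, k⟩ := both lH lK (fun X => h.bot) (by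
    obtain ⟨g, hg⟩ := h.conj
    rw [← hg, cj, ← H10.conj_LayOf, H10.card_conj]) h0
  obtain ⟨θ, t1, t2, t3, t4⟩ := emb lH lK a b c k
  exact ⟨θ, t1, t2, t3, (Nat.mul_le_mul_right d t4).trans (small h lH lK k)⟩

omit lH lK in
theorem mem_rng {m : ℕ} {R : Subgroup (Perm (Fin n) × Perm (Fin m))}
    (h : (alternatingGroup _).prod (alternatingGroup _) ≤ R) {x y : Perm (Fin n) × Perm (Fin m)} (hx : x ∈ R)
    (h1 : sign y.1 = sign x.1) (h2 : sign y.2 = sign x.2) : y ∈ R := by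
  rw [← mul_inv_cancel_left x y]
  exact mul_mem hx (h ⟨by simp [mem_alternatingGroup, h1], by simp [mem_alternatingGroup, h2]⟩)

omit lH lK in
theorem cls {m : ℕ} {R : Subgroup (Perm (Fin n) × Perm (Fin m))}
    (h : (alternatingGroup _).prod (alternatingGroup _) ≤ R) {x : Perm (Fin n) × Perm (Fin m)} (hx : x ∈ R)
    (h1 : sign x.1 = -1) : R = ⊤ ∨ R = (⊤ : Subgroup _).prod (alternatingGroup _) ∨
      R = (sign.comp (MonoidHom.fst _ _) * sign.comp (MonoidHom.snd _ _)).ker := by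
  have u := Int.units_eq_one_or
  by_cases a : ∀ y ∈ R, sign y.2 = 1
  · refine .inr (.inl (le_antisymm (fun y hy => ⟨trivial, a y hy⟩) fun y hy => ?_))
    rcases u (sign y.1) with e | e
    · exact h ⟨e, hy.2⟩
    · exact mem_rng h hx (e.trans h1.symm) (Eq.trans hy.2 (a x hx).symm)
  push Not at a
  obtain ⟨z, z1, z2⟩ := a
  replace z2 := (u _).resolve_left z2
  by_cases b : ∀ y ∈ R, sign y.1 = sign y.2
  · refine .inr (.inr (le_antisymm (fun y hy => ?_) fun y hy => ?_))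
    · show sign y.1 * sign y.2 = 1
      rw [b y hy, Int.units_mul_self]
    · replace hy : sign y.1 * sign y.2 = 1 := hy
      rcases u (sign y.1) with e | e <;> rw [e] at hy
      · exact h ⟨e, by rwa [one_mul] at hy⟩
      · exact mem_rng h hx (e.trans h1.symm) (by rw [← b x hx, h1, ← neg_eq_iff_eq_neg, ← hy, neg_one_mul])
  push Not at b
  obtain ⟨w, w1, w2⟩ := b
  refine .inl (eq_top_iff.2 fun y _ => ?_)
  have k : ∀ p q : ℤˣ, ∀ s t : ℤˣ × ℤˣ, s.1 ≠ s.2 → t = 1 ∨ t = (-1, p) ∨ t = (q, -1) ∨ t = s ∨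
      t = (-1, p) * (q, -1) ∨ t = (-1, p) * s ∨ t = (q, -1) * s := by decide
  rcases k (sign x.2) (sign z.1) (sign w.1, sign w.2) (sign y.1, sign y.2) w2 with e | e | e | e | e | e | e <;>
    simp only [Prod.ext_iff, Prod.fst_mul, Prod.snd_mul, Prod.fst_one, Prod.snd_one] at e
  · exact h e
  · exact mem_rng h hx (e.1.trans h1.symm) e.2
  · exact mem_rng h z1 e.1 (e.2.trans z2.symm)
  · exact mem_rng h w1 e.1 e.2
  · exact mem_rng h (mul_mem hx z1) (by simp [e, h1]) (by simp [e, z2])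
  · exact mem_rng h (mul_mem hx w1) (by simp [e, h1]) (by simp [e])
  · exact mem_rng h (mul_mem z1 w1) (by simp [e]) (by simp [e, z2])

end Cfsg.Agent.H23U
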